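import Cfsg.Agent.H91.Small.Transvection
import Cfsg.Agent.FusionSys.Alperin
import Cfsg.Agent.FusionSys.KNormalizer

/-!
Abelian essential subgroups with a transvection, and automorphisms extending to the whole group.
-/

set_option autoImplicit false
set_option linter.style.haveILetI false
set_option linter.unusedSectionVars false

namespace Cfsg.Agent.H91.Small

open Cfsg Cfsg.FusionSystem Cfsg.Agent.FusionSys
open Cfsg.FusionSystem (centralizerIn normalizerIn)

variable {Ω : Type*} [Group Ω] {S : Subgroup Ω} [Finite S] {p : ℕ} [hp : Fact p.Prime] {F : FusionSystem S}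
  (hS : IsPGroup p S) (hF : F.IsSaturated p)
include hS hF

/-- A `p`-group of automorphisms containing those induced by `S` consists of those induced by `S`. -/
theorem le_autInducedBy {P : Subgroup Ω} (hP : F.IsFullyNormalized P) {K : Subgroup (MulAut P)}
    (hK : K ≤ F.autGroup P) (hKp : IsPGroup p K) (hle : autInducedBy S P ≤ K) : K ≤ autInducedBy S P := by
  haveI := finite_autGroup F hP.1
  obtain ⟨-, R, hR⟩ := isFullyAutomized_of_isFullyNormalized hS hF hP
  have h := R.is_maximal' (Q := K.subgroupOf (F.autGroup P))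
    (hKp.of_equiv (Subgroup.subgroupOfEquivOfLe hK).symm)
    (by rw [hR]; exact fun x hx => hle hx)
  intro k hk
  have : (⟨k, hK hk⟩ : F.autGroup P) ∈ (R : Subgroup (F.autGroup P)) := h ▸ hk
  rw [hR] at this
  exact this

/-- An automorphism of a normal subgroup normalizing the action of `S` extends to `S`. -/
theorem extend_normal {P : Subgroup Ω} (hP : P ≤ S) (hn : S ≤ Subgroup.normalizer (P : Set Ω))
    {α : MulAut P} (hα : α ∈ F.autGroup P)
    (h : ∀ s (hs : s ∈ S), α * conjAut (hn hs) * α⁻¹ ∈ autInducedBy S P) :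
    ∃ t ∈ F.autGroup S, ∀ x ∈ P, autMap t x = autMap α x := by
  haveI := finite_of_le (normalizerIn_le : normalizerIn S P ≤ S)
  have hfn : F.IsFullyNormalized P :=
    ⟨hP, fun R _ => Subgroup.card_le_of_le fun x hx => ⟨hx.1, hn hx.1⟩⟩
  obtain ⟨g, hg, hge⟩ := receptive_extend (receptive_of_isFullyNormalized hS hF hfn) (isIso_autMap hP hα)
    (N := S) fun x hx => inExt_autMap hx (hn hx) (h x hx)
  rw [sup_eq_left.2 hP] at hg
  obtain ⟨t, ht, hte⟩ := (IsIso.mk hg (hg.image_eq_of_mapsTo fun x hx => hg.mem_S hx)).exists_aut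
  exact ⟨t, ht, fun x hx => (hte x (hP hx)).trans (hge x hx)⟩

section Ess

variable {E : Subgroup Ω} (hE : F.IsEssential p E) (hexp : ∀ v ∈ E, v ^ p = 1)
  (hcomm : ∀ u ∈ E, ∀ v ∈ E, u * v = v * u) {g : Ω} (hg : g ∈ normalizerIn S E) (hgE : g ∉ E) {a : Ω}
  (ha : a ∈ E) (hga : g * a * g⁻¹ = a) (hd : ∀ v ∈ E, v⁻¹ * (g * v * g⁻¹) ∈ Subgroup.zpowers a)
include hE hexp hcomm hg hgE ha hga hd

theorem exists_tvData : letI : CommGroup E := { (inferInstance : Group E) with
      mul_comm := fun u v => Subtype.ext (hcomm u u.2 v v.2) }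
    haveI : Finite E := finite_of_le hE.1.1
    ∃ (A : Sylow p (F.autGroup E)) (Y : Subgroup (F.autGroup E)) (z : F.autGroup E),
      TvData p (F.autGroup E) A Y z ⟨a, ha⟩ ∧ (z : MulAut E) = conjAut hg.2 ∧
      (A : Subgroup (F.autGroup E)) = (autInducedBy S E).subgroupOf (F.autGroup E) := by
  letI : CommGroup E := { (inferInstance : Group E) with
      mul_comm := fun u v => Subtype.ext (hcomm u u.2 v v.2) }
  obtain ⟨⟨hES, hcen⟩, hEn, hn, Y, hY⟩ := hE
  haveI : Finite E := finite_of_le hES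
  haveI := finite_autGroup F hES
  obtain ⟨-, A, hA⟩ := isFullyAutomized_of_isFullyNormalized hS hF hEn
  have hI : Inn E = ⊥ := eq_bot_iff.2 (by
    rintro _ ⟨e, rfl⟩
    refine MulEquiv.ext fun y => ?_
    show e * y * e⁻¹ = y
    rw [mul_comm e y, mul_inv_cancel_right])
  set π := QuotientGroup.mk' ((Inn E).subgroupOf (F.autGroup E))
  have hπ : Function.Injective π := (injective_iff_map_eq_one π).2 fun x hx => by
    have : (x : MulAut E) ∈ Inn E := Subgroup.mem_subgroupOf.1 ((QuotientGroup.eq_one_iff x).1 hx)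
    rw [hI, Subgroup.mem_bot] at this
    exact Subtype.ext this
  obtain ⟨Y', hY', -, hemb⟩ := exists_stronglyEmbedded_over hY
    (A.mapSurjective (f := π) (QuotientGroup.mk'_surjective _))
  refine ⟨A, Y'.comap π, ⟨_, conjAut_mem_autGroup F hES hg⟩,
    ⟨fun v => Subtype.ext (hexp v v.2), fun h => hY' ?_, fun Q hQ hQne => ?_, ?_, fun h => ?_, ?_, fun v => ?_⟩,
    rfl, hA⟩
  · rw [← Subgroup.map_comap_eq_self_of_surjective (f := π) (QuotientGroup.mk'_surjective _) Y', h,
      Subgroup.map_top_of_surjective π (QuotientGroup.mk'_surjective _)]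
  · refine fun x hx => hemb (Q.map π) ?_ ?_ ?_
    · rw [Sylow.coe_mapSurjective]
      exact Subgroup.map_mono hQ
    · rw [Ne, Subgroup.map_eq_bot_iff_of_injective _ hπ]
      exact hQne
    · exact Subgroup.le_normalizer_map π ⟨x, hx, rfl⟩
  · rw [hA]
    exact (mem_autInducedBy.2 ⟨g, hg.1, hg.2, rfl⟩ : conjAut hg.2 ∈ autInducedBy S E)
  · refine hgE (hcen E (isConj_refl F hES) (FusionSys.mem_centralizerIn.2 ⟨hg.1, fun y hy => ?_⟩))
    have := congrArg (fun α : MulAut E => (α ⟨y, hy⟩ : Ω)) (congrArg Subtype.val h)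
    simp only at this
    have h' : g * y * g⁻¹ = y := this
    exact (mul_inv_eq_iff_eq_mul.1 h').symm
  · exact Subtype.ext hga
  · obtain ⟨i, hi⟩ := hd v v.2
    exact ⟨i, Subtype.ext ((SubgroupClass.coe_zpow _ _).trans hi)⟩

/-- With a transvection whose centre `N_S(E)` centralizes, `E` has index at most `p` in `N_S(E)`. -/
theorem card_normalizerIn_le (hfix : ∀ s ∈ normalizerIn S E, s * a * s⁻¹ = a) :
    Nat.card (normalizerIn S E) ≤ p * Nat.card E := by
  letI : CommGroup E := { (inferInstance : Group E) with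
      mul_comm := fun u v => Subtype.ext (hcomm u u.2 v v.2) }
  have hES := hE.1.1
  haveI : Finite E := finite_of_le hES
  haveI := finite_autGroup F hES
  obtain ⟨A, Y, z, D, hz, hA⟩ := exists_tvData hS hF hE hexp hcomm hg hgE ha hga hd
  have hle := D.le_zpowers (fun w hw => by
    rw [hA] at hw
    obtain ⟨s, hs, hn, he⟩ := mem_autInducedBy.1 (hw : (w : MulAut E) ∈ autInducedBy S E)
    exact Subtype.ext ((congrArg (fun α : MulAut E => (α ⟨a, ha⟩ : Ω)) he).trans (hfix s ⟨hs, hn⟩)))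
  have hzp : z ^ p = 1 := by
    refine Subtype.ext (MulEquiv.ext fun v => ?_)
    show ((z : MulAut E) ^ p) v = v
    rw [Cfsg.Agent.H90.pow_apply_of_fix _ (by
      obtain ⟨i, hi⟩ := D.diff v
      simp only at hi
      rw [← hi, map_zpow, D.fix]) p, D.exp, mul_one]
  have hcA : Nat.card (autInducedBy S E) ≤ p := by
    have h1 : Nat.card (A : Subgroup (F.autGroup E)) = Nat.card (autInducedBy S E) := by
      rw [hA]
      exact Nat.card_congr (Subgroup.subgroupOfEquivOfLe (autInducedBy_le_autGroup F hES)).toEquiv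
    rw [← h1]
    refine (Subgroup.card_le_of_le hle).trans ?_
    rw [Nat.card_zpowers]
    exact Nat.le_of_dvd hp.out.pos (orderOf_dvd_of_pow_eq_one hzp)
  rw [card_normalizerIn]
  exact Nat.mul_le_mul hcA (Subgroup.card_le_of_le (centralizerIn_le_of_isCentric hE.1))

/-- The torus of a transvection. -/
theorem exists_torus (l : (ZMod p)ˣ) :
    ∃ τ ∈ F.autGroup E, autMap τ a = a ^ (l : ZMod p).val ∧
      (∀ v ∈ E, g * ((v ^ ((l⁻¹ : (ZMod p)ˣ) : ZMod p).val)⁻¹ * autMap τ v) * g⁻¹
        = (v ^ ((l⁻¹ : (ZMod p)ˣ) : ZMod p).val)⁻¹ * autMap τ v) ∧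
      ∀ v ∈ E, g * v * g⁻¹ = v →
        ∃ (i : ℕ), ∃ c ∈ E, v = c * a ^ i ∧ autMap τ c = c ∧ g * c * g⁻¹ = c := by
  letI : CommGroup E := { (inferInstance : Group E) with
      mul_comm := fun u v => Subtype.ext (hcomm u u.2 v v.2) }
  haveI : Finite E := finite_of_le hE.1.1
  obtain ⟨A, Y, z, D, hz, -⟩ := exists_tvData hS hF hE hexp hcomm hg hgE ha hga hd
  obtain ⟨τ, h1, h2, h3⟩ := D.exists_torus l
  refine ⟨τ, τ.2, ?_, fun v hv => ?_, fun v hv hgv => ?_⟩
  · rw [autMap_apply _ ha, h1]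
    simp
  · have h := congrArg Subtype.val (h2 ⟨v, hv⟩ : (z : MulAut E) _ = _)
    rw [hz] at h
    rw [autMap_apply _ hv]
    exact h
  · obtain ⟨i, c, hvc, htc, hzc⟩ := h3 ⟨v, hv⟩ (Subtype.ext (by rw [hz]; exact hgv))
    refine ⟨i, c, c.2, ?_, by rw [autMap_coe, htc], ?_⟩
    · exact (congrArg Subtype.val hvc).trans (by simp)
    · have h := congrArg Subtype.val hzc
      rw [hz] at h
      exact h

end Ess

end Cfsg.Agent.H91.Small
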