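import Cfsg.Agent.H91.Small.Group

/-!
The action of an automorphism on the layers of a group of maximal class.
-/

set_option autoImplicit false
set_option linter.style.haveILetI false
set_option linter.unusedSectionVars false

namespace Cfsg.Agent.H91.Small

open Cfsg.Agent.PGroups Subgroup
open scoped commutatorElement

universe u

variable {G : Type u} [Group G] [Finite G] {p n : ℕ} [hp : Fact p.Prime]

/-- The automorphism raises the `i`-th layer to the power `μ`. -/
def Wt (t : MulAut G) (i : ℕ) (μ : ZMod p) : Prop :=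
  ∀ v ∈ lcsFil G i, (v ^ μ.val)⁻¹ * t v ∈ lcsFil G (i + 1)

variable (M : MaxClassGrp G p n) (hp2 : p ≠ 2) (t : MulAut G)
include M

omit M in
theorem aut_lcsFil {i : ℕ} {v : G} (hv : v ∈ lcsFil G i) : t v ∈ lcsFil G i := by
  have h := map_lcsFil (t : G ≃* G).toMonoidHom (t : G ≃* G).surjective (i := i)
  exact h.le ⟨v, hv, rfl⟩

omit M in
theorem aut_layerCent {i : ℕ} {c : G} (hc : c ∈ layerCent G i) : t c ∈ layerCent G i := by
  refine mem_layerCent.2 fun w hw => ?_
  have h := mem_layerCent.1 hc (t⁻¹ w) (aut_lcsFil t⁻¹ hw)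
  have h' := aut_lcsFil t h
  rwa [map_commutatorElement, MulAut.apply_inv_self] at h'

theorem pow_p_mem {i : ℕ} (hi : 2 ≤ i) (hin : i < n) {v : G} (hv : v ∈ lcsFil G i) :
    v ^ p ∈ lcsFil G (i + 1) := by
  haveI := lcsFil_normal (G := G) (i + 1)
  set q := QuotientGroup.mk' (lcsFil G (i + 1))
  have hcard : Nat.card ((lcsFil G i).map q) = p := by
    have h := card_eq_card_map_mul (lcsFil G (i + 1)) (lcsFil G i)
    rw [inf_eq_right.2 (lcsFil_antitone (by omega)), M.card_lcsFil hi hin.le,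
      M.card_lcsFil (by omega) (by omega), show n - i = n - (i + 1) + 1 by omega, pow_succ,
      mul_comm (Nat.card _)] at h
    exact (Nat.eq_of_mul_eq_mul_left (pow_pos hp.out.pos _) h).symm
  have h : (⟨q v, mem_map_of_mem q hv⟩ : (lcsFil G i).map q) ^ p = 1 := by
    conv_lhs => arg 2; rw [← hcard]
    exact pow_card_eq_one'
  exact (QuotientGroup.eq_one_iff _).1 (by
    show q (v ^ p) = 1
    rw [map_pow]; exact congrArg Subtype.val h)

theorem quot_pow_congr {i : ℕ} (hi : 2 ≤ i) (hin : i < n) [(lcsFil G (i + 1)).Normal] {v : G}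
    (hv : v ∈ lcsFil G i) {a b : ℕ}
    (h : (a : ZMod p) = b) : QuotientGroup.mk' (lcsFil G (i + 1)) v ^ a =
      QuotientGroup.mk' (lcsFil G (i + 1)) v ^ b := by
  have h1 : QuotientGroup.mk' (lcsFil G (i + 1)) v ^ p = 1 := by
    rw [← map_pow]
    exact (QuotientGroup.eq_one_iff _).2 (pow_p_mem M hi hin hv)
  rw [ZMod.natCast_eq_natCast_iff'] at h
  rw [pow_eq_pow_mod a h1, pow_eq_pow_mod b h1, h]

theorem wt_of_exact {i : ℕ} (hi : 2 ≤ i) (hin : i < n) {e : G} (he : e ∈ lcsFil G i)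
    (he' : e ∉ lcsFil G (i + 1)) {μ : ZMod p} (h : (e ^ μ.val)⁻¹ * t e ∈ lcsFil G (i + 1)) :
    Wt t i μ := by
  intro v hv
  haveI := lcsFil_normal (G := G) (i + 1)
  set q := QuotientGroup.mk' (lcsFil G (i + 1))
  obtain ⟨k, hk⟩ := M.exists_pow_layer hi hin he he' hv
  have hqv : q v = q e ^ k := by
    rw [← map_pow]
    exact ((QuotientGroup.eq (s := lcsFil G (i + 1))).2 hk).symm
  have hqte : q (t e) = q e ^ μ.val := by
    rw [← map_pow]
    exact ((QuotientGroup.eq (s := lcsFil G (i + 1))).2 h).symm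
  refine (QuotientGroup.eq (s := lcsFil G (i + 1))).1 ?_
  show q (v ^ μ.val) = q (t v)
  have hqtv : q (t v) = q (t e) ^ k := by
    rw [← map_pow, ← map_pow t]
    refine ((QuotientGroup.eq (s := lcsFil G (i + 1))).2 ?_).symm
    rw [← map_inv, ← map_mul]
    exact aut_lcsFil t hk
  rw [hqtv, hqte, map_pow, hqv, ← pow_mul, ← pow_mul, mul_comm]

theorem wt_unique {i : ℕ} (hi : 2 ≤ i) (hin : i < n) {μ ν : ZMod p} (h1 : Wt t i μ) (h2 : Wt t i ν) :
    μ = ν := by
  haveI := lcsFil_normal (G := G) (i + 1)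
  set q := QuotientGroup.mk' (lcsFil G (i + 1))
  obtain ⟨e, he, he'⟩ := exists_exact M (i := i) (by omega) hin
  have h := ((QuotientGroup.eq (s := lcsFil G (i + 1))).2 (h1 e he)).trans
    ((QuotientGroup.eq (s := lcsFil G (i + 1))).2 (h2 e he)).symm
  have ho : orderOf (q e) = p := orderOf_eq_prime
    (by rw [← map_pow]; exact (QuotientGroup.eq_one_iff _).2 (pow_p_mem M hi hin he))
    fun h => he' ((QuotientGroup.eq_one_iff e).1 h)
  change q (e ^ μ.val) = q (e ^ ν.val) at h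
  rw [map_pow, map_pow, pow_eq_pow_iff_modEq, ho] at h
  rw [← ZMod.natCast_zmod_val μ, ← ZMod.natCast_zmod_val ν]
  exact (ZMod.natCast_eq_natCast_iff _ _ _).2 h

theorem wt_step {i : ℕ} (hi : 1 ≤ i) (hin : i + 1 < n) {c v : G} {A μ : ℕ} (hv : v ∈ lcsFil G i)
    (hc : ∀ w ∈ lcsFil G i, ⁅(c ^ A)⁻¹ * t c, w⁆ ∈ lcsFil G (i + 2))
    (htv : (v ^ μ)⁻¹ * t v ∈ lcsFil G (i + 1)) (hne : ⁅c, v⁆ ∉ lcsFil G (i + 2)) :
    Wt (p := p) t (i + 1) ((A : ZMod p) * μ) := by
  haveI := lcsFil_normal (G := G) (i + 2)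
  set q := QuotientGroup.mk' (lcsFil G (i + 2))
  have hmem : ⁅c, v⁆ ∈ lcsFil G (i + 1) := comm_mem_symm (commutatorElement_mem_lcsFil (j := 1) hv
    (by simp [lcsFil_one]))
  have hcentral : ∀ w ∈ lcsFil G (i + 1), ∀ y, Commute (q w) (q y) := fun w hw y => by
    rw [← commutatorElement_eq_one_iff_commute, ← map_commutatorElement]
    exact (QuotientGroup.eq_one_iff _).2 (commutatorElement_mem_lcsFil (j := 1) hw (by simp [lcsFil_one]))
  refine wt_of_exact M t (by omega) hin hmem hne ?_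
  haveI : (lcsFil G (i + 1 + 1)).Normal := lcsFil_normal _
  refine (QuotientGroup.eq (s := lcsFil G (i + 1 + 1))).1 ?_
  show q (⁅c, v⁆ ^ ((A : ZMod p) * μ).val) = q (t ⁅c, v⁆)
  set c' := (c ^ A)⁻¹ * t c
  set v' := (v ^ μ)⁻¹ * t v
  have hv' : Commute (q v') (q (t c)) := hcentral v' htv _
  have hc' : ∀ w ∈ lcsFil G i, Commute (q c') (q w) := fun w hw => by
    rw [← commutatorElement_eq_one_iff_commute, ← map_commutatorElement]
    exact (QuotientGroup.eq_one_iff _).2 (hc w hw)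
  have htv' : q (t v) = q v ^ μ * q v' := by simp [v']
  have htc : q (t c) = q c ^ A * q c' := by simp [c']
  have h1 : q c * q v * (q c)⁻¹ = q ⁅c, v⁆ * q v := by
    rw [← map_inv, ← map_mul, ← map_mul, ← map_mul]
    congr 1
    rw [commutatorElement_def]
    group
  have h2 := comm_pow h1 (hcentral _ hmem c) (hcentral _ hmem v) A μ
  have h3 : q c' * (q v ^ μ) * (q c')⁻¹ = q v ^ μ := by
    rw [((hc' v hv).pow_right μ).eq, mul_inv_cancel_right]
  have h4 : q (t ⁅c, v⁆) = q ⁅c, v⁆ ^ (A * μ) := by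
    rw [map_commutatorElement t, map_commutatorElement q, commutatorElement_def]
    calc q (t c) * q (t v) * (q (t c))⁻¹ * (q (t v))⁻¹
        = (q (t c) * q v ^ μ * (q (t c))⁻¹) * (q (t c) * q v' * (q (t c))⁻¹) * (q v')⁻¹ * (q v ^ μ)⁻¹ := by
          rw [htv']; group
      _ = (q c ^ A * (q c' * q v ^ μ * (q c')⁻¹) * (q c ^ A)⁻¹) * (q v ^ μ)⁻¹ := by
          rw [hv'.symm.eq, mul_inv_cancel_right, mul_inv_cancel_right, htc]; group
      _ = q ⁅c, v⁆ ^ (A * μ) := by rw [h3, h2, mul_inv_cancel_right]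
  rw [h4, map_pow]
  haveI : (lcsFil G ((i + 1) + 1)).Normal := lcsFil_normal _
  exact quot_pow_congr M (i := i + 1) (by omega) hin hmem (by simp [ZMod.natCast_zmod_val])

theorem exists_exp {C : Subgroup G} (h2 : lcsFil G 2 ≤ C) (hC : Nat.card C = p ^ (n - 1)) {c y : G}
    (hc : c ∈ C) (hc2 : c ∉ lcsFil G 2) (hy : y ∈ C) : ∃ A : ℕ, (c ^ A)⁻¹ * y ∈ lcsFil G 2 := by
  have h4 := M.four_le
  haveI := lcsFil_normal (G := G) 2
  have hgen : lcsFil G 2 ⊔ zpowers c = C := by
    refine Subgroup.eq_of_le_of_card_ge (sup_le h2 (zpowers_le.2 hc)) ?_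
    have hlt : lcsFil G 2 < lcsFil G 2 ⊔ zpowers c := lt_of_le_of_ne le_sup_left fun he =>
      hc2 (he ▸ Subgroup.mem_sup_right (mem_zpowers c))
    have := M.mul_card_le_of_lt hlt
    rwa [M.card_lcsFil le_rfl (by omega), ← pow_succ', show n - 2 + 1 = n - 1 by omega, ← hC] at this
  rw [← hgen, sup_comm] at hy
  obtain ⟨w, hw, l, hl, rfl⟩ := Subgroup.mem_sup_of_normal_right.1 hy
  obtain ⟨k, rfl⟩ := ((isOfFinOrder_of_finite c).mem_powers_iff_mem_zpowers.2 hw)
  exact ⟨k, by simpa using hl⟩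

theorem wt_shift {i : ℕ} (hi : 2 ≤ i) (hin : i + 1 < n) {c : G} {A : ℕ} {μ : ZMod p} (h : Wt t i μ)
    (hc : ∀ w ∈ lcsFil G i, ⁅(c ^ A)⁻¹ * t c, w⁆ ∈ lcsFil G (i + 2))
    (hne : ∀ v ∈ lcsFil G i, v ∉ lcsFil G (i + 1) → ⁅c, v⁆ ∉ lcsFil G (i + 2)) :
    Wt t (i + 1) ((A : ZMod p) * μ) := by
  obtain ⟨v, hv, hv'⟩ := exists_exact M (i := i) (by omega) (by omega)
  have := wt_step M t (A := A) (μ := μ.val) (by omega) hin hv hc (h v hv) (hne v hv hv')
  rwa [ZMod.natCast_zmod_val] at this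

include hp2

theorem weight_five (h : n = 5) (heq : layerCent G 2 = layerCent G (n - 2)) {u v w : ZMod p}
    (hu : Wt t 4 u) (hv : Wt t 3 v) (hw : Wt t 2 w) : ∃ B : ZMod p, v = B * w ∧ u = B * v := by
  subst h
  haveI : (layerCent G 2).Normal :=
    PGroups.normal_of_index_eq (IsPGroup.of_card M.card) (M.layerCent_index le_rfl (by omega))
  obtain ⟨x, hx⟩ : ∃ x, x ∉ layerCent G 2 := by
    by_contra h
    push Not at h
    have h1 := M.layerCent_index (i := 2) le_rfl (by omega)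
    rw [show layerCent G 2 = ⊤ from eq_top_iff.2 fun x _ => h x, Subgroup.index_top] at h1
    exact hp.out.one_lt.ne h1
  obtain ⟨A, hA⟩ : ∃ A : ℕ, (x ^ A)⁻¹ * t x ∈ layerCent G 2 := by
    set q := QuotientGroup.mk' (layerCent G 2)
    have hcard : Nat.card (G ⧸ layerCent G 2) = p := by
      rw [← Subgroup.index_eq_card, M.layerCent_index le_rfl (by omega)]
    obtain ⟨A, hA⟩ := mem_powers_of_prime_card hcard
      (g := q x) (g' := q (t x)) fun h => hx ((QuotientGroup.eq_one_iff x).1 h)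
    exact ⟨A, (QuotientGroup.eq (s := layerCent G 2)).1 ((map_pow q x A).trans hA)⟩
  refine ⟨A, ?_, ?_⟩
  · exact wt_unique M t (by omega) (by omega) hv (wt_shift M t le_rfl (by omega) hw
      (fun y hy => mem_layerCent.1 hA y hy) fun y hy hy' =>
      not_mem_layer M hp2 le_rfl (by omega) hx hy hy')
  · refine wt_unique M t (by omega) (by omega) hu (wt_shift M t (by omega) (by omega) hv
      (fun y hy => mem_layerCent.1 (heq.le hA) y hy) fun y hy hy' h => hx (heq.ge ?_))
    exact M.mem_layerCent_of_gen (by omega) (by omega) hy hy' h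

theorem weight_six (h6 : 6 ≤ n) (hne : layerCent G 2 ≠ layerCent G (n - 2)) {u v w : ZMod p}
    (hu : Wt t (n - 1) u) (hv : Wt t (n - 2) v) (hw : Wt t (n - 3) w) :
    ∃ A B : ZMod p, v = B * w ∧ u = A * v ∧ w = A * B * B ^ (n - 5) := by
  have h4 := M.four_le
  have hC1 := M.layerCent_card (i := 2) le_rfl h4
  have hC2 := M.layerCent_card (i := n - 2) (by omega) (by omega)
  have hex : ∀ C D : Subgroup G, Nat.card C = p ^ (n - 1) → Nat.card D = p ^ (n - 1) → C ≠ D →
      ∃ c ∈ C, c ∉ D := fun C D hC hD h => by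
    by_contra hall
    push Not at hall
    exact h (Subgroup.eq_of_le_of_card_ge hall (hD.trans hC.symm).le)
  obtain ⟨c, hc, hcD⟩ := hex _ _ hC1 hC2 hne
  obtain ⟨x, hx, hxC⟩ := hex _ _ hC2 hC1 hne.symm
  have hc2 : c ∉ lcsFil G 2 := fun h => hcD (MaxClassGrp.lcsFil_two_le_layerCent _ h)
  have hx2 : x ∉ lcsFil G 2 := fun h => hxC (MaxClassGrp.lcsFil_two_le_layerCent _ h)
  obtain ⟨A, hA⟩ := exists_exp M (MaxClassGrp.lcsFil_two_le_layerCent 2) hC1 hc hc2 (aut_layerCent t hc)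
  obtain ⟨B, hB⟩ := exists_exp M (MaxClassGrp.lcsFil_two_le_layerCent _) hC2 hx hx2 (aut_layerCent t hx)
  have hcomm : ∀ {i : ℕ}, ∀ d ∈ lcsFil G 2, ∀ y ∈ lcsFil G i, ⁅d, y⁆ ∈ lcsFil G (i + 2) :=
    fun d hd y hy => by
      have := commutatorElement_mem_lcsFil hd hy
      rwa [Nat.add_comm] at this
  have hchain : ∀ d, 2 + d + 3 ≤ n → Wt (p := p) t (2 + d) ((A : ZMod p) * B * (B : ZMod p) ^ d) := by
    intro d
    induction d with
    | zero =>
      intro _
      rw [pow_zero, mul_one, mul_comm]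
      refine wt_step M t (i := 1) (c := x) (v := c) (A := B) (μ := A) le_rfl (by omega)
        (by simp [lcsFil_one]) (fun y hy => hcomm _ hB y hy) hA ?_
      exact top_layer M (MaxClassGrp.lcsFil_two_le_layerCent 2) hC1 hc hc2 hxC
    | succ d ih =>
      intro hd
      have := wt_shift M t (c := x) (A := B) (i := 2 + d) (by omega) (by omega) (ih (by omega))
        (fun y hy => hcomm _ hB y hy) fun y hy hy' => not_mem_layer M hp2 (by omega) (by omega) hxC hy hy'
      rw [show (A : ZMod p) * B * (B : ZMod p) ^ (d + 1) = (B : ZMod p) * ((A : ZMod p) * B * (B : ZMod p) ^ d) by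
        rw [pow_succ]; ring]
      simpa [add_assoc] using this
  refine ⟨A, B, ?_, ?_, ?_⟩
  · have := wt_shift M t (c := x) (A := B) (i := n - 3) (by omega) (by omega) hw
      (fun y hy => hcomm _ hB y hy) fun y hy hy' => not_mem_layer M hp2 (by omega) (by omega) hxC hy hy'
    rw [show n - 3 + 1 = n - 2 by omega] at this
    exact wt_unique M t (by omega) (by omega) hv this
  · have := wt_shift M t (c := c) (A := A) (i := n - 2) (by omega) (by omega) hv
      (fun y hy => hcomm _ hA y hy) fun y hy hy' h => hcD (M.mem_layerCent_of_gen (by omega) (by omega) hy hy' h)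
    rw [show n - 2 + 1 = n - 1 by omega] at this
    exact wt_unique M t (by omega) (by omega) hu this
  · have := hchain (n - 5) (by omega)
    rw [show 2 + (n - 5) = n - 3 by omega] at this
    exact wt_unique M t (by omega) (by omega) hw this

end Cfsg.Agent.H91.Small
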