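import Cfsg.Agent.H91.Small.Frame
import Cfsg.Agent.H91.Small.Weights

/-!
Elementary abelian essential subgroups of order `p ^ 3` in a group of maximal class: common facts.
-/

set_option autoImplicit false
set_option linter.style.haveILetI false
set_option linter.unusedSectionVars false

namespace Cfsg.Agent.H91.Small

open Cfsg Cfsg.FusionSystem Cfsg.Agent.FusionSys Cfsg.Agent.PGroups
open Cfsg.FusionSystem (centralizerIn normalizerIn)
open scoped commutatorElement

universe u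

variable {Ω : Type u} [Group Ω] {S : Subgroup Ω} [Finite S] {p n : ℕ} [hp : Fact p.Prime]
  {F : FusionSystem S}

/-- The layers of `S` inside the ambient group. -/
def lay (S : Subgroup Ω) (i : ℕ) : Subgroup Ω := (lcsFil ↥S i).map S.subtype

theorem coe_mem_lay {i : ℕ} {v : ↥S} : (v : Ω) ∈ lay S i ↔ v ∈ lcsFil ↥S i :=
  Subgroup.mem_map_iff_mem S.subtype_injective

theorem lay_le (i : ℕ) : lay S i ≤ S := Subgroup.map_subtype_le _

theorem exists_lay {i : ℕ} {x : Ω} (hx : x ∈ lay S i) : ∃ v ∈ lcsFil ↥S i, (v : Ω) = x := hx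

theorem card_lay (i : ℕ) : Nat.card (lay S i) = Nat.card (lcsFil ↥S i) :=
  Subgroup.card_map_of_injective S.subtype_injective

theorem lay_antitone {i j : ℕ} (h : i ≤ j) : lay S j ≤ lay S i :=
  Subgroup.map_mono (lcsFil_antitone h)

theorem lay_normal (i : ℕ) : S ≤ Subgroup.normalizer (lay S i : Set Ω) := by
  intro g hg
  haveI := finite_of_le (lay_le (S := S) i)
  refine mem_normalizer_of_maps fun y hy => ?_
  obtain ⟨v, hv, rfl⟩ := exists_lay hy
  exact ⟨_, (lcsFil_normal (G := ↥S) i).conj_mem v hv ⟨g, hg⟩, rfl⟩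

theorem lay_step {i : ℕ} {s y : Ω} (hs : s ∈ S) (hy : y ∈ lay S i) :
    y⁻¹ * (s * y * s⁻¹) ∈ lay S (i + 1) := by
  obtain ⟨v, hv, rfl⟩ := exists_lay hy
  refine ⟨⁅v⁻¹, ⟨s, hs⟩⁆, commutatorElement_mem_lcsFil (j := 1) ((lcsFil _ i).inv_mem hv) (by simp [lcsFil_one]),
    ?_⟩
  simp [commutatorElement_def, mul_assoc]

/-- A subgroup of index `p` and any element outside generate. -/
theorem gen_prime (hS : IsPGroup p S) {K V : Subgroup Ω} (hVS : V ≤ S) (hKV : K ≤ V)
    (hcard : Nat.card V = p * Nat.card K) {e : Ω} (he : e ∈ V) (heK : e ∉ K) {v : Ω} (hv : v ∈ V) :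
    ∃ i : ℕ, (e ^ i)⁻¹ * v ∈ K := by
  haveI : Finite V := finite_of_le hVS
  have hcK : Nat.card (K.subgroupOf V) = Nat.card K := Nat.card_congr (Subgroup.subgroupOfEquivOfLe hKV).toEquiv
  have hidx : (K.subgroupOf V).index = p := by
    have h := (K.subgroupOf V).card_mul_index
    rw [hcK, hcard, mul_comm p] at h
    exact Nat.eq_of_mul_eq_mul_left (hcK ▸ Nat.card_pos) h
  haveI := PGroups.normal_of_index_eq (hS.to_le hVS) hidx
  set q := QuotientGroup.mk' (K.subgroupOf V)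
  obtain ⟨i, hi⟩ := mem_powers_of_prime_card (G := ↥V ⧸ K.subgroupOf V)
    (by rw [← Subgroup.index_eq_card, hidx]) (g := q ⟨e, he⟩) (g' := q ⟨v, hv⟩)
    fun h => heK ((QuotientGroup.eq_one_iff (N := K.subgroupOf V) ⟨e, he⟩).1 h)
  exact ⟨i, (QuotientGroup.eq (s := K.subgroupOf V)).1 ((map_pow q ⟨e, he⟩ i).trans hi)⟩

/-- An automorphism of a subgroup mapping a subgroup of it into itself does so backwards as well. -/
theorem autMap_inv_mem {P X : Subgroup Ω} {α : MulAut P} (hP : P ≤ S) (hα : α ∈ F.autGroup P) (hX : X ≤ P)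
    (h : ∀ x ∈ X, autMap α x ∈ X) {x : Ω} (hx : x ∈ X) : autMap α⁻¹ x ∈ X := by
  haveI := finite_of_le (hX.trans hP)
  have hm := (mem_autGroup_iff hP).1 hα
  obtain ⟨y, hy, rfl⟩ := ((hm.mono hX).image_eq_of_mapsTo h).ge hx
  rw [← autMap_mul α⁻¹ α (hX hy), inv_mul_cancel, Cfsg.Agent.FusionSys.autMap_one (hX hy)]
  exact hy

/-- A unit of `ZMod p` of order `p - 1`. -/
theorem exists_unit : ∃ l : (ZMod p)ˣ, orderOf l = p - 1 := by
  obtain ⟨l, hl⟩ := IsCyclic.exists_generator (α := (ZMod p)ˣ)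
  refine ⟨l, ?_⟩
  rw [orderOf_eq_card_of_forall_mem_zpowers hl, Nat.card_eq_fintype_card, ZMod.card_units]

/-- An elementary abelian essential subgroup of order `p ^ 3`. -/
structure Elem (F : FusionSystem S) (p n : ℕ) (E : Subgroup Ω) : Prop where
  hS : IsPGroup p S
  hF : F.IsSaturated p
  five : 5 ≤ p
  M : MaxClassGrp ↥S p n
  hn : 5 ≤ n
  ess : F.IsEssential p E
  card : Nat.card E = p ^ 3
  comm : ∀ u ∈ E, ∀ v ∈ E, u * v = v * u
  exp : ∀ v ∈ E, v ^ p = 1

namespace Elem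

variable {E : Subgroup Ω} (D : Elem F p n E)
include D

theorem hES : E ≤ S := D.ess.1.1

theorem hp2 : p ≠ 2 := by have := D.five; omega

theorem cent : Subgroup.centralizer ((E.subgroupOf S : Subgroup ↥S) : Set ↥S) ≤ E.subgroupOf S :=
  fun g hg => D.ess.1.2 E (isConj_refl F D.hES) (FusionSys.mem_centralizerIn.2 ⟨g.2, fun y hy =>
    congrArg Subtype.val (Subgroup.mem_centralizer_iff.1 hg ⟨y, D.hES hy⟩ hy)⟩)

theorem card_sub : Nat.card (E.subgroupOf S) = p ^ 3 :=
  (Nat.card_congr (Subgroup.subgroupOfEquivOfLe D.hES).toEquiv).trans D.card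

theorem ab : ∀ u ∈ E.subgroupOf S, ∀ v ∈ E.subgroupOf S, Commute u v :=
  fun u hu v hv => Subtype.ext (D.comm _ hu _ hv)

theorem exp_sub : ∀ v ∈ E.subgroupOf S, v ^ p = 1 := fun v hv =>
  Subtype.ext ((SubmonoidClass.coe_pow _ _).trans (D.exp _ hv))

/-- Normalizing `E` inside `S`, upstairs and downstairs. -/
theorem mem_normalizer_sub {g : ↥S} : g ∈ Subgroup.normalizer ((E.subgroupOf S : Subgroup ↥S) : Set ↥S) ↔
    (g : Ω) ∈ normalizerIn S E := by
  haveI : Finite E := finite_of_le D.hES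
  refine ⟨fun h => ⟨g.2, mem_normalizer_of_maps fun y hy => ?_⟩, fun h => ?_⟩
  · exact (Subgroup.mem_normalizer_iff.1 h ⟨y, D.hES hy⟩).1 hy
  · rw [Subgroup.mem_normalizer_iff]
    exact fun y => (FusionSys.mem_normalizerIn.1 h).2 y

theorem le_card_normalizerIn : Nat.card (Subgroup.normalizer ((E.subgroupOf S : Subgroup ↥S) : Set ↥S))
    ≤ Nat.card (normalizerIn S E) := by
  haveI := finite_of_le (normalizerIn_le : normalizerIn S E ≤ S)
  exact Nat.card_le_card_of_injective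
    (fun g : ↥(Subgroup.normalizer ((E.subgroupOf S : Subgroup ↥S) : Set ↥S)) =>
      (⟨((g : ↥S) : Ω), D.mem_normalizer_sub.1 g.2⟩ : normalizerIn S E))
    fun a b h => Subtype.ext (Subtype.ext (congrArg Subtype.val h :))

/-- A transvection with centre centralized by `N_S(E)` bounds it. -/
theorem card_le_fourth {g : ↥S} (hg : g ∈ Subgroup.normalizer ((E.subgroupOf S : Subgroup ↥S) : Set ↥S))
    (hgE : (g : Ω) ∉ E) {a : ↥S} (ha : (a : Ω) ∈ E) (hga : Commute g a)
    (hd : ∀ v ∈ E.subgroupOf S, ⁅g, v⁆ ∈ Subgroup.zpowers a)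
    (hfix : ∀ w : ↥S, (w : Ω) ∈ normalizerIn S E → Commute w a) :
    Nat.card (normalizerIn S E) ≤ p ^ 4 := by
  have h := card_normalizerIn_le D.hS D.hF D.ess D.exp D.comm (D.mem_normalizer_sub.1 hg) hgE ha
    (by rw [show (g : Ω) * a = a * g from congrArg Subtype.val hga.eq, mul_inv_cancel_right])
    (fun v hv => by
      obtain ⟨i, hi⟩ := hd ⟨v, D.hES hv⟩ hv
      refine ⟨i, ?_⟩
      simp only
      have h' : (a : Ω) ^ i = (g : Ω) * v * (g : Ω)⁻¹ * v⁻¹ := congrArg Subtype.val hi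
      have h'' : (g : Ω) * v * (g : Ω)⁻¹ = (a : Ω) ^ i * v := by rw [h', inv_mul_cancel_right]
      rw [h'', D.comm _ (E.zpow_mem ha i) v hv, inv_mul_cancel_left])
    (fun s hs => by
      rw [show s * a = a * s from congrArg Subtype.val (hfix ⟨s, hs.1⟩ hs).eq, mul_inv_cancel_right])
  rwa [D.card, show p * p ^ 3 = p ^ 4 by ring] at h

theorem not_big : ¬ Big p (E.subgroupOf S) := by
  rintro ⟨g, a, hg, hgE, ha, hac, hd, h5⟩
  have h := (h5.trans D.le_card_normalizerIn).trans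
    (D.card_le_fourth hg hgE ha ((hac g).symm) hd fun w _ => (hac w).symm)
  exact absurd h (Nat.pow_lt_pow_right hp.out.one_lt (by norm_num)).not_ge

/-- No conjugate of `E` lies in the second layer above the second centre. -/
theorem no_low (h4 : Nat.card (normalizerIn S E) ≤ p ^ 4) {E' : Subgroup Ω} (hEE' : F.IsConj E E')
    (h2 : E' ≤ lay S 2) (hZ : lay S (n - 2) ≤ E') : False := by
  have hE'S := le_of_isConj_right hEE'
  haveI := finite_of_le hE'S
  obtain ⟨f, hf⟩ := isConj_iff.1 hEE'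
  have hcomm : ∀ u ∈ E', ∀ v ∈ E', u * v = v * u := fun u hu v hv => by
    obtain ⟨x, hx, rfl⟩ := hf.exists_preimage hu
    obtain ⟨y, hy, rfl⟩ := hf.exists_preimage hv
    rw [← hf.isMap.map_mul hx hy, D.comm x hx y hy, hf.isMap.map_mul hy hx]
  have hcard : Nat.card (E'.subgroupOf S) = p ^ 3 :=
    (Nat.card_congr (Subgroup.subgroupOfEquivOfLe hE'S).toEquiv).trans ((card_eq_of_isConj hEE').symm.trans D.card)
  obtain ⟨-, -, -, -, -, -, -, h5⟩ := big_of_le_two D.M D.hp2 D.hn (E := E'.subgroupOf S)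
    (fun u hu v hv => Subtype.ext (hcomm _ hu _ hv))
    (fun g hg => D.ess.1.2 E' hEE' (FusionSys.mem_centralizerIn.2 ⟨g.2, fun y hy =>
      congrArg Subtype.val (Subgroup.mem_centralizer_iff.1 hg ⟨y, hE'S hy⟩ hy)⟩))
    hcard (fun v hv => coe_mem_lay.1 (h2 hv)) (fun v hv => hZ (coe_mem_lay.2 hv))
  haveI := finite_of_le (normalizerIn_le : normalizerIn S E' ≤ S)
  have hle := Nat.card_le_card_of_injective
    (fun g : ↥(Subgroup.normalizer ((E'.subgroupOf S : Subgroup ↥S) : Set ↥S)) =>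
      (⟨((g : ↥S) : Ω), (g : ↥S).2, mem_normalizer_of_maps fun y hy =>
        (Subgroup.mem_normalizer_iff.1 g.2 ⟨y, hE'S hy⟩).1 hy⟩ : normalizerIn S E'))
    fun a b h => Subtype.ext (Subtype.ext (congrArg Subtype.val h :))
  exact absurd (((h5.trans hle).trans (D.ess.2.1.2 E' hEE')).trans h4)
    (Nat.pow_lt_pow_right hp.out.one_lt (by norm_num)).not_ge

omit D

end Elem

section Flag

variable (hS : IsPGroup p S) (hF : F.IsSaturated p) (M : MaxClassGrp ↥S p n) (h5 : 5 ≤ n)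
  (hW : ∀ v ∈ lay S (n - 2), v ^ p = 1)
include hS hF M h5 hW

theorem commute_low {u v : ↥S} (hu : u ∈ lcsFil ↥S (n - 3)) (hv : v ∈ lcsFil ↥S (n - 3)) : Commute u v := by
  rcases Nat.eq_or_lt_of_le h5 with h | h
  · obtain ⟨e, he, he'⟩ := exists_exact M (i := n - 3) (by omega) (by omega)
    obtain ⟨k, hk⟩ := M.exists_pow_layer (i := n - 3) (by omega) (by omega) he he' hu
    obtain ⟨l, hl⟩ := M.exists_pow_layer (i := n - 3) (by omega) (by omega) he he' hv
    rw [show u = e ^ k * ((e ^ k)⁻¹ * u) by group, show v = e ^ l * ((e ^ l)⁻¹ * v) by group]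
    refine Commute.mul_left (Commute.mul_right ((Commute.refl e).pow_pow k l) ?_) (Commute.mul_right ?_ ?_)
    · exact comm_eq_one M (by omega) (pow_mem he k) hl
    · exact comm_eq_one M (by omega) hk (pow_mem he l)
    · exact comm_eq_one M (by omega) hk hl
  · exact comm_eq_one M (by omega) hu hv

theorem comm_lay : ∀ u ∈ lay S (n - 3), ∀ v ∈ lay S (n - 3), u * v = v * u := by
  intro u hu v hv
  obtain ⟨u, hu', rfl⟩ := exists_lay hu
  obtain ⟨v, hv', rfl⟩ := exists_lay hv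
  exact congrArg Subtype.val (commute_low hS hF M h5 hW hu' hv').eq

theorem lay_fix {s y : Ω} (hs : s ∈ S) (hy : y ∈ lay S (n - 1)) : s * y * s⁻¹ = y := by
  obtain ⟨v, hv, rfl⟩ := exists_lay hy
  rw [← show (v : Ω) * s = s * v from congrArg Subtype.val (central_last M hv ⟨s, hs⟩).eq, mul_inv_cancel_right]

/-- Automorphisms stabilizing the series of the last layers come from `S`. -/
theorem stab_induced {δ : MulAut (lay S (n - 3))} (hδ : δ ∈ F.autGroup (lay S (n - 3)))
    (h1 : ∀ a ∈ lay S (n - 1), autMap δ a = a)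
    (h2 : ∀ b ∈ lay S (n - 2), b⁻¹ * autMap δ b ∈ lay S (n - 1))
    (h3 : ∀ x ∈ lay S (n - 3), x⁻¹ * autMap δ x ∈ lay S (n - 2)) :
    δ ∈ autInducedBy S (lay S (n - 3)) := by
  have hLS := lay_le (S := S) (n - 3)
  haveI := finite_of_le hLS
  letI : CommGroup (lay S (n - 3)) := { (inferInstance : Group (lay S (n - 3))) with
      mul_comm := fun u v => Subtype.ext (comm_lay hS hF M h5 hW u u.2 v v.2) }
  haveI := finite_of_le (normalizerIn_le : normalizerIn S (lay S (n - 3)) ≤ S)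
  have hfn : F.IsFullyNormalized (lay S (n - 3)) :=
    ⟨hLS, fun R _ => Subgroup.card_le_of_le fun x hx => ⟨hx.1, lay_normal _ hx.1⟩⟩
  set K := Cfsg.Agent.H90.seriesStab (F.autGroup (lay S (n - 3)))
    ((lay S (n - 1)).subgroupOf (lay S (n - 3))) ((lay S (n - 2)).subgroupOf (lay S (n - 3))) with hKdef
  have hmem : ∀ β : MulAut (lay S (n - 3)), β ∈ F.autGroup (lay S (n - 3)) →
      (∀ a ∈ lay S (n - 1), autMap β a = a) →
      (∀ b ∈ lay S (n - 2), b⁻¹ * autMap β b ∈ lay S (n - 1)) →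
      (∀ x ∈ lay S (n - 3), x⁻¹ * autMap β x ∈ lay S (n - 2)) → β ∈ K := by
    intro β hβ g1 g2 g3
    refine ⟨hβ, fun a ha => Subtype.ext ((autMap_coe β a).symm.trans (g1 a ha)), fun b hb => ?_, fun x => ?_⟩
    · have := g2 b hb
      rw [autMap_coe] at this
      exact this
    · have := g3 x x.2
      rw [autMap_coe] at this
      exact this
  refine le_autInducedBy hS hF hfn (K := K) (fun _ h => h.1) ?_ ?_ (hmem δ hδ h1 h2 h3)
  · exact Cfsg.Agent.H90.seriesStab_isPGroup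
      (fun a ha => Subtype.ext ((SubmonoidClass.coe_pow _ _).trans (hW _ (lay_antitone (by omega) ha))))
      fun b hb => Subtype.ext ((SubmonoidClass.coe_pow _ _).trans (hW _ hb))
  · intro β hβ
    obtain ⟨s, hs, hsn, rfl⟩ := mem_autInducedBy.1 hβ
    refine hmem _ (conjAut_mem_autGroup F hLS ⟨hs, hsn⟩) (fun a ha => ?_) (fun b hb => ?_) fun x hx => ?_
    · rw [autMap_conjAut hsn (lay_antitone (by omega) ha)]
      exact lay_fix hS hF M h5 hW hs ha
    · rw [autMap_conjAut hsn (lay_antitone (by omega) hb)]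
      have := lay_step (i := n - 2) hs hb
      rwa [show n - 2 + 1 = n - 1 by omega] at this
    · rw [autMap_conjAut hsn hx]
      have := lay_step (i := n - 3) hs hx
      rwa [show n - 3 + 1 = n - 2 by omega] at this

/-- An automorphism of the third last layer preserving the series extends to `S`. -/
theorem flag_extend {m : MulAut (lay S (n - 3))} (hm : m ∈ F.autGroup (lay S (n - 3)))
    (hm1 : ∀ v ∈ lay S (n - 1), autMap m v ∈ lay S (n - 1))
    (hm2 : ∀ v ∈ lay S (n - 2), autMap m v ∈ lay S (n - 2)) :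
    ∃ t : MulAut ↥S, ∀ v ∈ lcsFil ↥S (n - 3), ((t v : ↥S) : Ω) = autMap m v := by
  have hLS := lay_le (S := S) (n - 3)
  have h13 : lay S (n - 1) ≤ lay S (n - 3) := lay_antitone (by omega)
  have h23 : lay S (n - 2) ≤ lay S (n - 3) := lay_antitone (by omega)
  have hmap := (mem_autGroup_iff hLS).1 hm
  obtain ⟨t, -, ht⟩ := extend_normal hS hF hLS (lay_normal _) hm fun s hs => by
    have hn' := lay_normal (S := S) (n - 3) hs
    have e : ∀ y ∈ lay S (n - 3), autMap (m * conjAut hn' * m⁻¹) y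
        = autMap m (s * autMap m⁻¹ y * s⁻¹) := fun y hy => by
      rw [autMap_mul _ _ hy, autMap_mul _ _ (autMap_mem _ hy), autMap_conjAut hn' (autMap_mem _ hy)]
      rfl
    have hmv : ∀ {y}, y ∈ lay S (n - 3) → autMap m (autMap m⁻¹ y) = y := fun hy => autMap_inv_apply m hy
    refine stab_induced hS hF M h5 hW (mul_mem (mul_mem hm (conjAut_mem_autGroup F hLS ⟨hs, hn'⟩))
      (inv_mem hm)) (fun a ha => ?_) (fun b hb => ?_) fun x hx => ?_
    · rw [e a (h13 ha), lay_fix hS hF M h5 hW hs (autMap_inv_mem hLS hm h13 hm1 ha), hmv (h13 ha)]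
    · have hw := autMap_inv_mem hLS hm h23 hm2 hb
      have h := lay_step (i := n - 2) hs hw
      rw [show n - 2 + 1 = n - 1 by omega] at h
      have hc : s * autMap m⁻¹ b * s⁻¹ ∈ lay S (n - 3) :=
        h23 ((Subgroup.mem_normalizer_iff.1 (lay_normal _ hs) _).1 hw)
      have := hm1 _ h
      rw [hmap.map_mul (inv_mem (h23 hw)) hc, hmap.map_inv (h23 hw), hmv (h23 hb)] at this
      rw [e b (h23 hb)]
      exact this
    · have hw := autMap_mem m⁻¹ hx
      have h := lay_step (i := n - 3) hs hw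
      rw [show n - 3 + 1 = n - 2 by omega] at h
      have hc : s * autMap m⁻¹ x * s⁻¹ ∈ lay S (n - 3) :=
        (Subgroup.mem_normalizer_iff.1 (lay_normal _ hs) _).1 hw
      have := hm2 _ h
      rw [hmap.map_mul (inv_mem hw) hc, hmap.map_inv hw, hmv hx] at this
      rw [e x hx]
      exact this
  exact ⟨t, fun v hv => (autMap_coe t v).symm.trans (ht v (coe_mem_lay.2 hv))⟩

omit hW

theorem wt_of_fact {t : MulAut ↥S} {m : MulAut (lay S (n - 3))}
    (ht : ∀ v ∈ lcsFil ↥S (n - 3), ((t v : ↥S) : Ω) = autMap m v) {i : ℕ} (hi : n - 3 ≤ i) (hin : i < n)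
    {v : Ω} (hv : v ∈ lay S i) (hv' : v ∉ lay S (i + 1)) (μ : ZMod p)
    (h : (v ^ μ.val)⁻¹ * autMap m v ∈ lay S (i + 1)) : Wt t i μ := by
  obtain ⟨w, hw, rfl⟩ := exists_lay hv
  refine wt_of_exact M t (by omega) hin hw (fun hh => hv' (coe_mem_lay.2 hh)) (coe_mem_lay.1 ?_)
  rw [Subgroup.coe_mul, Subgroup.coe_inv, SubmonoidClass.coe_pow, ht w (lcsFil_antitone hi hw)]
  exact h

end Flag

end Cfsg.Agent.H91.Small
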