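import Cfsg.Agent.H91.Small.Setting

/-!
The frame of an elementary abelian essential subgroup and the case of order `p ^ 5`.
-/

set_option autoImplicit false
set_option linter.style.haveILetI false
set_option linter.unusedSectionVars false

namespace Cfsg.Agent.H91.Small

open Cfsg Cfsg.FusionSystem Cfsg.Agent.FusionSys Cfsg.Agent.PGroups
open Cfsg.FusionSystem (centralizerIn normalizerIn)
open scoped commutatorElement

universe u

variable {Ω : Type u} [Group Ω] {S : Subgroup Ω} [Finite S] {p n : ℕ} [hp : Fact p.Prime]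
  {F : FusionSystem S}

theorem mem_of_pow_mem {G : Type*} [Group G] {H : Subgroup G} {x : G} (hx : x ^ p = 1) {k : ℕ}
    (hk : (k : ZMod p) ≠ 0) (h : x ^ k ∈ H) : x ∈ H := by
  have h1 : x ^ (k * ((k : ZMod p)⁻¹).val) = x ^ 1 := by
    have e : ((k * ((k : ZMod p)⁻¹).val : ℕ) : ZMod p) = (1 : ℕ) := by
      rw [Nat.cast_mul, ZMod.natCast_zmod_val, mul_inv_cancel₀ hk, Nat.cast_one]
    rw [ZMod.natCast_eq_natCast_iff'] at e
    rw [pow_eq_pow_mod _ hx, e, ← pow_eq_pow_mod _ hx]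
  rw [pow_mul, pow_one] at h1
  exact h1 ▸ H.pow_mem h _

theorem pow_congr_zmod {G : Type*} [Monoid G] {x : G} (hx : x ^ p = 1) {a b : ℕ}
    (h : (a : ZMod p) = b) : x ^ a = x ^ b := by
  rw [ZMod.natCast_eq_natCast_iff'] at h
  rw [pow_eq_pow_mod _ hx, h, ← pow_eq_pow_mod _ hx]

namespace FrameData

variable {E L K : Subgroup Ω} {e g s : Ω} (D : FrameData F p E L K e g s)
include D

theorem diff_mem : ∀ v ∈ E, v⁻¹ * (g * v * g⁻¹) ∈ Subgroup.zpowers ⁅g, e⁆ := fun v hv => by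
  obtain ⟨i, hi⟩ := D.genE v hv
  have := D.conj_E hi 1
  rw [pow_one] at this
  rw [this, D.commE _ (E.pow_mem (D.KE D.comm_mem) _) v hv, inv_mul_cancel_left]
  exact Subgroup.pow_mem _ (Subgroup.mem_zpowers _) _

theorem card_le (hS : IsPGroup p S) (hF : F.IsSaturated p)
    (hfix : ∀ w ∈ normalizerIn S E, w * ⁅g, e⁆ * w⁻¹ = ⁅g, e⁆) :
    Nat.card (normalizerIn S E) ≤ p * Nat.card E :=
  card_normalizerIn_le hS hF D.ess D.exp D.commE D.g_mem D.hgE (D.KE D.comm_mem)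
    (by rw [(D.conj_K D.comm_mem).1.eq, mul_inv_cancel_right]) D.diff_mem hfix

end FrameData

namespace Elem

variable {E : Subgroup Ω} (D : Elem F p n E)
include D

theorem card_three : Nat.card (lay S (n - 3)) = p ^ 3 := by
  have := D.hn
  rw [card_lay, D.M.card_lcsFil (by omega) (by omega), show n - (n - 3) = 3 by omega]

theorem card_two : Nat.card (lay S (n - 2)) = p ^ 2 := by
  have := D.hn
  rw [card_lay, D.M.card_lcsFil (by omega) (by omega), show n - (n - 2) = 2 by omega]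

theorem last_gen {a : Ω} (ha : a ∈ lay S (n - 1)) (ha1 : a ≠ 1) {v : Ω} (hv : v ∈ lay S (n - 1)) :
    ∃ i : ℕ, a ^ i = v := by
  have := D.hn
  obtain ⟨i, hi⟩ := gen_prime D.hS (lay_le (n - 1)) (K := ⊥) bot_le (by
    rw [card_lay, D.M.card_lcsFil (by omega) (by omega), show n - (n - 1) = 1 by omega, pow_one,
      Subgroup.card_bot, mul_one]) ha (fun h => ha1 (Subgroup.mem_bot.1 h)) hv
  exact ⟨i, inv_mul_eq_one.1 (Subgroup.mem_bot.1 hi)⟩

theorem frame {K : Subgroup Ω} (hKE : K ≤ E) (hKL : K ≤ lay S (n - 3)) (hcK : Nat.card K = p ^ 2)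
    {e g s : ↥S} (he : (e : Ω) ∈ E) (heK : (e : Ω) ∉ K) (hg : g ∈ lcsFil ↥S (n - 3)) (hgE : (g : Ω) ∉ E)
    (hcomm : (⁅(g : Ω), (e : Ω)⁆) ∈ K) (hse : ⁅e⁻¹, s⁆ ∈ lcsFil ↥S (n - 3))
    (hseE : ((s * e * s⁻¹ : ↥S) : Ω) ∉ E) (hsg : ((⁅g⁻¹, s⁆ : ↥S) : Ω) ∈ K)
    (hsK : ∀ v ∈ K, (s : Ω) * v * (s : Ω)⁻¹ ∈ K)
    (hLcomm : ∀ u ∈ lay S (n - 3), ∀ v ∈ lay S (n - 3), u * v = v * u) :
    FrameData F p E (lay S (n - 3)) K e g s := by
  have hgL : (g : Ω) ∈ lay S (n - 3) := coe_mem_lay.2 hg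
  have hpc : p ^ 3 = p * Nat.card K := by rw [hcK]; ring
  have hgenE : ∀ v ∈ E, ∃ i : ℕ, ((e : Ω) ^ i)⁻¹ * v ∈ K :=
    fun v hv => gen_prime D.hS D.hES hKE (D.card.trans hpc) he heK hv
  refine ⟨D.ess, D.exp, D.comm, lay_le _, lay_normal _, hLcomm, D.card_three.trans D.card.symm, hKE, hKL,
    he, hgL, hgE, hgenE,
    fun v hv => gen_prime D.hS (lay_le _) hKL (D.card_three.trans hpc) hgL (fun h => hgE (hKE h)) hv,
    hcomm, fun h1 => hgE ?_, s.2, ?_, ?_, ?_, hsK, ?_⟩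
  · refine D.ess.1.2 E (isConj_refl F D.hES) (FusionSys.mem_centralizerIn.2 ⟨g.2, fun v hv => ?_⟩)
    obtain ⟨i, hi⟩ := hgenE v hv
    have h2 : Commute (g : Ω) ((e : Ω) ^ i * (((e : Ω) ^ i)⁻¹ * v)) :=
      ((commutatorElement_eq_one_iff_commute.1 h1).pow_right i).mul_right (hLcomm _ hgL _ (hKL hi))
    rw [mul_inv_cancel_left] at h2
    exact h2.eq.symm
  · have := coe_mem_lay.2 hse
    simpa [commutatorElement_def, mul_assoc] using this
  · simpa using hseE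
  · simpa [commutatorElement_def, mul_assoc] using hsg
  · haveI := finite_of_le (normalizerIn_le : normalizerIn S E ≤ S)
    by_contra hlt
    have h := Subgroup.eq_of_le_of_card_ge (normalizerIn_le : normalizerIn S E ≤ S) (not_lt.1 hlt)
    exact hseE (by simpa using conj_mem_of_mem_normalizerIn (P := E) (S := S) (h.ge s.2) he)

theorem shift_fix {K L : Subgroup Ω} {a : Ω} {m : MulAut L} (hm : m ∈ F.autGroup L) (hLS : L ≤ S)
    (hK : K ≤ L) (hLc : ∀ u ∈ L, ∀ v ∈ L, u * v = v * u) (haL : a ∈ L) {l : ℕ} (hma : autMap m a = a ^ l)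
    (hmK : ∀ v ∈ K, ∃ (i : ℕ), ∃ c ∈ K, v = c * a ^ i ∧ autMap m c = c) {v : Ω} (hv : v ∈ K) :
    v⁻¹ * autMap m v ∈ Subgroup.zpowers a := by
  obtain ⟨i, c, hc, rfl, hmc⟩ := hmK v hv
  have hmap := (mem_autGroup_iff hLS).1 hm
  rw [hmap.map_mul (hK hc) (L.pow_mem haL i), hmap.map_pow haL, hma, hmc, mul_inv_rev, mul_assoc,
    inv_mul_cancel_left]
  exact mul_mem (inv_mem (pow_mem (Subgroup.mem_zpowers a) _)) (pow_mem (pow_mem (Subgroup.mem_zpowers a) _) _)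

/-- Order `p ^ 5`. -/
theorem five_case (h : n = 5) (heq : layerCent ↥S 2 = layerCent ↥S (n - 2))
    (hZ : lcsFil ↥S (n - 2) ≤ E.subgroupOf S) {e : ↥S} (he : e ∈ E.subgroupOf S)
    (he1 : e ∈ layerCent ↥S 2) (he2 : e ∉ lcsFil ↥S 2) : False := by
  have h4 := D.M.four_le
  have hn := D.hn
  have hZE : lay S (n - 2) ≤ E := fun x hx => by
    obtain ⟨v, hv, rfl⟩ := exists_lay hx
    exact hZ hv
  have hW : ∀ v ∈ lay S (n - 2), v ^ p = 1 := fun v hv => D.exp v (hZE hv)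
  have hLc := comm_lay D.hS D.hF D.M D.hn hW
  have hinf : E.subgroupOf S ⊓ lcsFil ↥S 2 = lcsFil ↥S (n - 2) :=
    inf_card D.M D.hp2 D.hn D.ab D.cent D.card_sub (le_inf hZ (lcsFil_antitone (by omega))) fun hh => he2 (hh he)
  obtain ⟨g, hg, hg'⟩ := exists_exact D.M (i := n - 3) (by omega) (by omega)
  rw [show n - 3 + 1 = n - 2 by omega] at hg'
  have hgE : (g : Ω) ∉ E := fun hh => hg' (hinf.le ⟨hh, lcsFil_antitone (by omega) hg⟩)
  obtain ⟨s, hs⟩ : ∃ s, s ∉ layerCent ↥S 2 := by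
    by_contra hall
    push Not at hall
    have h1 := D.M.layerCent_index (i := 2) le_rfl h4
    rw [show layerCent ↥S 2 = ⊤ from eq_top_iff.2 fun x _ => hall x, Subgroup.index_top] at h1
    exact hp.out.one_lt.ne h1
  have htop := top_layer D.M (MaxClassGrp.lcsFil_two_le_layerCent 2) (D.M.layerCent_card le_rfl h4) he1 he2 hs
  have hz : ⁅g, e⁆ ∈ lcsFil ↥S (n - 1) := by
    rw [show n - 1 = 2 + 2 by omega]
    exact comm_mem_symm (mem_layerCent.1 he1 g (by rwa [show 2 = n - 3 by omega]))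
  have Fr := D.frame (K := lay S (n - 2)) hZE (lay_antitone (by omega)) D.card_two (e := e) (g := g) (s := s)
    he (fun hh => he2 (lcsFil_antitone (by omega) (coe_mem_lay.1 hh))) hg hgE
    (lay_antitone (by omega) (show ((⁅g, e⁆ : ↥S) : Ω) ∈ lay S (n - 1) from coe_mem_lay.2 hz))
    (by rw [show n - 3 = 1 + 1 by omega]
        exact commutatorElement_mem_lcsFil (by simp [lcsFil_one]) (by simp [lcsFil_one]))
    (fun hh => by
      refine htop ?_
      have h1 : ⁅s, e⁆ ∈ E.subgroupOf S ⊓ lcsFil ↥S 2 :=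
        ⟨show ((⁅s, e⁆ : ↥S) : Ω) ∈ E from E.mul_mem hh (E.inv_mem he),
          commutatorElement_mem_lcsFil (i := 1) (j := 1) (by simp [lcsFil_one]) (by simp [lcsFil_one])⟩
      rw [hinf] at h1
      exact lcsFil_antitone (by omega) h1)
    (coe_mem_lay.2 (by
      rw [show n - 2 = n - 3 + 1 by omega]
      exact commutatorElement_mem_lcsFil (j := 1) ((lcsFil _ _).inv_mem hg) (by simp [lcsFil_one])))
    (fun v hv => (Subgroup.mem_normalizer_iff.1 (lay_normal _ s.2) v).1 hv) hLc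
  obtain ⟨l, hl⟩ := exists_unit (p := p)
  obtain ⟨m, hm, hma, hmK, hmg⟩ := Fr.exists_aut_L D.hS D.hF l
  have hmap := (mem_autGroup_iff (lay_le _)).1 hm
  set a : Ω := ⁅(g : Ω), (e : Ω)⁆
  have ha : a ∈ lay S (n - 1) := show ((⁅g, e⁆ : ↥S) : Ω) ∈ _ from coe_mem_lay.2 hz
  have ha1 : a ≠ 1 := Fr.comm_ne
  have haL : a ∈ lay S (n - 3) := lay_antitone (by omega) ha
  have hza : Subgroup.zpowers a ≤ lay S (n - 1) := Subgroup.zpowers_le.2 ha
  have hm1 : ∀ v ∈ lay S (n - 1), autMap m v ∈ lay S (n - 1) := fun v hv => by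
    obtain ⟨i, rfl⟩ := D.last_gen ha ha1 hv
    rw [hmap.map_pow haL, hma]
    exact pow_mem (pow_mem ha _) _
  have hsh : ∀ v ∈ lay S (n - 2), v⁻¹ * autMap m v ∈ lay S (n - 1) := fun v hv =>
    hza (shift_fix D hm (lay_le _) (lay_antitone (by omega)) hLc haL hma hmK hv)
  obtain ⟨t, ht⟩ := flag_extend D.hS D.hF D.M D.hn hW hm hm1 fun v hv => by
    rw [← mul_inv_cancel_left v (autMap m v)]
    exact mul_mem hv (lay_antitone (by omega) (hsh v hv))
  have hwt := fun {i : ℕ} (hi : n - 3 ≤ i) (hin : i < n) {v : Ω} =>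
    wt_of_fact D.hS D.hF D.M D.hn ht hi hin (v := v)
  have w4 : Wt (p := p) t 4 (l : ZMod p) := by
    refine hwt (v := a) (by omega) (by omega) (by rwa [show 4 = n - 1 by omega])
      (fun hh => ha1 ?_) _ (by rw [hma, inv_mul_cancel]; exact one_mem _)
    rw [← show ((⁅g, e⁆ : ↥S) : Ω) = a from rfl] at hh ⊢
    rw [eq_one_of_mem D.M (by omega) (coe_mem_lay.1 hh)]
    rfl
  obtain ⟨w, hw, hw'⟩ := exists_exact D.M (i := n - 2) (by omega) (by omega)
  have w3 : Wt (p := p) t 3 1 := by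
    rw [show 3 = n - 2 by omega]
    refine hwt (v := (w : Ω)) (by omega) (by omega) (coe_mem_lay.2 hw) (fun hh => hw' (coe_mem_lay.1 hh)) _ ?_
    rw [ZMod.val_one, pow_one, show n - 2 + 1 = n - 1 by omega]
    exact hsh _ (coe_mem_lay.2 hw)
  have w2 : Wt (p := p) t 2 ((l : ZMod p) * l) := by
    rw [show 2 = n - 3 by omega]
    refine hwt (v := (g : Ω)) le_rfl (by omega) (coe_mem_lay.2 hg)
      (by rw [show n - 3 + 1 = n - 2 by omega]; exact fun hh => hg' (coe_mem_lay.1 hh)) _ ?_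
    rw [show n - 3 + 1 = n - 2 by omega]
    exact hmg
  obtain ⟨B, hB1, hB2⟩ := weight_five D.M D.hp2 t h heq w4 w3 w2
  rw [mul_one] at hB2
  subst hB2
  have hl3 : l ^ 3 = 1 := Units.ext (by rw [Units.val_pow_eq_pow_val, Units.val_one, hB1]; ring)
  have := Nat.le_of_dvd (by norm_num) (orderOf_dvd_of_pow_eq_one hl3)
  have := D.five
  omega

end Elem

end Cfsg.Agent.H91.Small
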