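import Cfsg.Agent.H91.Small.Essential

/-!
The torus of an abelian essential subgroup with a transvection, moved to a neighbouring normal abelian
subgroup.
-/

set_option autoImplicit false
set_option linter.style.haveILetI false
set_option linter.unusedSectionVars false

namespace Cfsg.Agent.H91.Small

open Cfsg Cfsg.FusionSystem Cfsg.Agent.FusionSys
open Cfsg.FusionSystem (centralizerIn normalizerIn)
open scoped commutatorElement

variable {Ω : Type*} [Group Ω] {S : Subgroup Ω} [Finite S] {p : ℕ} [hp : Fact p.Prime]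
  {F : FusionSystem S} (hS : IsPGroup p S) (hF : F.IsSaturated p)

/-- The data: `E` essential, `L` normal in `S`, both elementary over the common subgroup `K`, and an
element `s` moving `e` towards `g`. -/
structure FrameData (F : FusionSystem S) (p : ℕ) (E L K : Subgroup Ω) (e g s : Ω) : Prop where
  ess : F.IsEssential p E
  exp : ∀ v ∈ E, v ^ p = 1
  commE : ∀ u ∈ E, ∀ v ∈ E, u * v = v * u
  leS : L ≤ S
  norm : S ≤ Subgroup.normalizer (L : Set Ω)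
  commL : ∀ u ∈ L, ∀ v ∈ L, u * v = v * u
  card : Nat.card L = Nat.card E
  KE : K ≤ E
  KL : K ≤ L
  he : e ∈ E
  hg : g ∈ L
  hgE : g ∉ E
  genE : ∀ v ∈ E, ∃ i : ℕ, (e ^ i)⁻¹ * v ∈ K
  genL : ∀ v ∈ L, ∃ i : ℕ, (g ^ i)⁻¹ * v ∈ K
  comm_mem : ⁅g, e⁆ ∈ K
  comm_ne : ⁅g, e⁆ ≠ 1
  hs : s ∈ S
  se : e⁻¹ * (s * e * s⁻¹) ∈ L
  seE : s * e * s⁻¹ ∉ E
  sg : g⁻¹ * (s * g * s⁻¹) ∈ K
  sK : ∀ v ∈ K, s * v * s⁻¹ ∈ K
  small : Nat.card (normalizerIn S E) < Nat.card S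

namespace FrameData

variable {E L K : Subgroup Ω} {e g s : Ω} (D : FrameData F p E L K e g s)
include D

theorem hES : E ≤ S := D.ess.1.1

theorem conj_K {κ : Ω} (hκ : κ ∈ K) : Commute g κ ∧ Commute e κ :=
  ⟨D.commL g D.hg κ (D.KL hκ), D.commE e D.he κ (D.KE hκ)⟩

theorem comm_eq (i : ℕ) : g ^ i * e * (g ^ i)⁻¹ = ⁅g, e⁆ ^ i * e := by
  induction i with
  | zero => simp
  | succ i ih =>
    calc g ^ (i + 1) * e * (g ^ (i + 1))⁻¹ = g * (g ^ i * e * (g ^ i)⁻¹) * g⁻¹ := by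
          rw [pow_succ']; group
      _ = g * ⁅g, e⁆ ^ i * g⁻¹ * (g * e * g⁻¹) := by rw [ih]; group
      _ = ⁅g, e⁆ ^ (i + 1) * e := by
          rw [((D.conj_K D.comm_mem).1.pow_right i).eq, mul_inv_cancel_right, pow_succ,
            commutatorElement_def]
          group

theorem pow_comm (i j : ℕ) : g ^ i * e ^ j * (g ^ i)⁻¹ = ⁅g, e⁆ ^ (i * j) * e ^ j := by
  rw [← conj_pow, D.comm_eq, ((D.conj_K D.comm_mem).2.symm.pow_left i).mul_pow, ← pow_mul]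

theorem conj_E {v : Ω} {i : ℕ} (hv : (e ^ i)⁻¹ * v ∈ K) (m : ℕ) :
    g ^ m * v * (g ^ m)⁻¹ = ⁅g, e⁆ ^ (m * i) * v := by
  obtain ⟨κ, hκ, rfl⟩ : ∃ κ ∈ K, v = e ^ i * κ := ⟨_, hv, (mul_inv_cancel_left _ _).symm⟩
  calc g ^ m * (e ^ i * κ) * (g ^ m)⁻¹ = g ^ m * e ^ i * (g ^ m)⁻¹ * (g ^ m * κ * (g ^ m)⁻¹) := by group
    _ = ⁅g, e⁆ ^ (m * i) * (e ^ i * κ) := by
      rw [D.pow_comm, ((D.conj_K hκ).1.pow_left m).eq, mul_inv_cancel_right, mul_assoc]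

theorem mem_K_of_fixed {v : Ω} (hv : v ∈ E) (h : g * v * g⁻¹ = v) : v ∈ K := by
  obtain ⟨i, hi⟩ := D.genE v hv
  have h1 := D.conj_E hi 1
  rw [pow_one, h, one_mul] at h1
  have ha : orderOf ⁅g, e⁆ = p :=
    orderOf_eq_prime (D.exp _ (D.KE D.comm_mem)) D.comm_ne
  have h2 : ⁅g, e⁆ ^ i = 1 := mul_eq_right.1 h1.symm
  obtain ⟨q, rfl⟩ := ha ▸ orderOf_dvd_of_pow_eq_one h2
  rwa [pow_mul, D.exp e D.he, one_pow, inv_one, one_mul] at hi

theorem g_mem : g ∈ normalizerIn S E := by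
  haveI : Finite E := finite_of_le D.hES
  refine ⟨D.leS D.hg, mem_normalizer_of_maps fun v hv => ?_⟩
  obtain ⟨i, hi⟩ := D.genE v hv
  have := D.conj_E hi 1
  rw [pow_one] at this
  rw [this]
  exact E.mul_mem (E.pow_mem (D.KE D.comm_mem) _) hv

theorem inf_le {v : Ω} (hE : v ∈ E) (hL : v ∈ L) : v ∈ K :=
  D.mem_K_of_fixed hE (by rw [D.commL g D.hg v hL, mul_inv_cancel_right])

theorem g_pow_p : g ^ p ∈ K := by
  refine D.inf_le (D.ess.1.2 E (isConj_refl F D.hES) (FusionSys.mem_centralizerIn.2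
    ⟨S.pow_mem (D.leS D.hg) p, fun v hv => ?_⟩)) (L.pow_mem D.hg p)
  obtain ⟨i, hi⟩ := D.genE v hv
  have := D.conj_E hi p
  rw [pow_mul, D.exp _ (D.KE D.comm_mem), one_pow, one_mul, mul_inv_eq_iff_eq_mul] at this
  exact this.symm

theorem g_pow_congr {a b : ℕ} (h : (a : ZMod p) = b) : (g ^ a)⁻¹ * g ^ b ∈ K := by
  rw [ZMod.natCast_eq_natCast_iff'] at h
  have h' : ∀ c : ℕ, g ^ c = (g ^ p) ^ (c / p) * g ^ (c % p) := fun c => by
    rw [← pow_mul, ← pow_add, Nat.div_add_mod]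
  rw [h' a, h' b, h]
  have e : ∀ u w x : Ω, Commute u x → Commute w x → (u * x)⁻¹ * (w * x) = u⁻¹ * w := fun u w x hu hw => by
    rw [mul_inv_rev, mul_assoc, ← mul_assoc u⁻¹, ((hu.inv_left.mul_left hw)).eq, inv_mul_cancel_left]
  rw [e _ _ _ (((Commute.refl g).pow_pow p _).pow_left _) (((Commute.refl g).pow_pow p _).pow_left _)]
  exact K.mul_mem (K.inv_mem (K.pow_mem D.g_pow_p _)) (K.pow_mem D.g_pow_p _)

/-- Conjugating `e` by powers of `s`. -/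
theorem exists_s_pow : ∃ r : ℕ, ¬ p ∣ r ∧ ∀ j : ℕ,
    (∃ κ ∈ K, s ^ j * e * (s ^ j)⁻¹ = e * g ^ (j * r) * κ) := by
  obtain ⟨r, hr⟩ := D.genL _ D.se
  obtain ⟨κ, hκ, hse⟩ : ∃ κ ∈ K, s * e * s⁻¹ = e * g ^ r * κ := ⟨_, hr, by group⟩
  refine ⟨r, fun hd => D.seE ?_, fun j => ?_⟩
  · rw [hse]
    obtain ⟨q, rfl⟩ := hd
    rw [pow_mul]
    exact E.mul_mem (E.mul_mem D.he (D.KE (K.pow_mem D.g_pow_p q))) (D.KE hκ)
  induction j with
  | zero => exact ⟨1, K.one_mem, by simp⟩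
  | succ j ih =>
    obtain ⟨κ', hκ', hj⟩ := ih
    set κ₂ := g⁻¹ * (s * g * s⁻¹)
    have hg' : s * g * s⁻¹ = g * κ₂ := by simp [κ₂]
    refine ⟨κ * κ₂ ^ (j * r) * (s * κ' * s⁻¹), K.mul_mem (K.mul_mem hκ (K.pow_mem D.sg _)) (D.sK _ hκ'), ?_⟩
    calc s ^ (j + 1) * e * (s ^ (j + 1))⁻¹ = s * (e * g ^ (j * r) * κ') * s⁻¹ := by
          rw [← hj, pow_succ']; group
      _ = (s * e * s⁻¹) * (s * g * s⁻¹) ^ (j * r) * (s * κ' * s⁻¹) := by rw [conj_pow]; group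
      _ = e * g ^ r * (κ * g ^ (j * r)) * κ₂ ^ (j * r) * (s * κ' * s⁻¹) := by
          rw [hse, hg', (D.conj_K (show κ₂ ∈ K from D.sg)).1.mul_pow]; simp only [mul_assoc]
      _ = e * g ^ ((j + 1) * r) * (κ * κ₂ ^ (j * r) * (s * κ' * s⁻¹)) := by
          rw [((D.conj_K hκ).1.symm.pow_right (j * r)).eq, show (j + 1) * r = r + j * r by ring, pow_add]
          simp only [mul_assoc]

theorem pow_eg (m i : ℕ) : ∃ κ ∈ K, (e * g ^ m) ^ i = g ^ (m * i) * e ^ i * κ := by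
  have ha : ∀ t : ℕ, ⁅g, e⁆ ^ t ∈ K := fun t => K.pow_mem D.comm_mem t
  induction i with
  | zero => exact ⟨1, K.one_mem, by simp⟩
  | succ i ih =>
    obtain ⟨κ, hκ, hi⟩ := ih
    have h1 : e ^ (i + 1) * g ^ m = g ^ m * (⁅g, e⁆ ^ (m * (i + 1)))⁻¹ * e ^ (i + 1) := by
      have h := D.pow_comm m (i + 1)
      rw [mul_inv_eq_iff_eq_mul] at h
      rw [((D.conj_K (ha (m * (i + 1)))).1.pow_left m).inv_right.eq, mul_assoc, h]
      group
    refine ⟨(⁅g, e⁆ ^ (m * (i + 1)))⁻¹ * κ, K.mul_mem (K.inv_mem (ha _)) hκ, ?_⟩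
    calc (e * g ^ m) ^ (i + 1) = g ^ (m * i) * e ^ i * κ * (e * g ^ m) := by rw [pow_succ, hi]
      _ = g ^ (m * i) * (e ^ (i + 1) * g ^ m) * κ := by
          rw [mul_assoc _ κ, ((D.conj_K hκ).2.symm.mul_right ((D.conj_K hκ).1.symm.pow_right m)).eq,
            pow_succ e i]
          group
      _ = g ^ (m * (i + 1)) * ((⁅g, e⁆ ^ (m * (i + 1)))⁻¹ * e ^ (i + 1)) * κ := by
          rw [h1, mul_add m i 1, mul_one, pow_add]; group
      _ = g ^ (m * (i + 1)) * e ^ (i + 1) * ((⁅g, e⁆ ^ (m * (i + 1)))⁻¹ * κ) := by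
          rw [((D.conj_K (ha (m * (i + 1)))).2.symm.pow_right (i + 1)).inv_left.eq]; group

include hS hF

/-- The torus on `L`. -/
theorem exists_aut_L (l : (ZMod p)ˣ) : ∃ m ∈ F.autGroup L,
    autMap m ⁅g, e⁆ = ⁅g, e⁆ ^ (l : ZMod p).val ∧
    (∀ v ∈ K, ∃ (i : ℕ), ∃ c ∈ K, v = c * ⁅g, e⁆ ^ i ∧ autMap m c = c) ∧
    (g ^ ((l : ZMod p) * l).val)⁻¹ * autMap m g ∈ K := by
  have hES := D.hES
  haveI : Finite E := finite_of_le hES
  haveI : Finite L := finite_of_le D.leS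
  have ha := D.KE D.comm_mem
  have hga : g * ⁅g, e⁆ * g⁻¹ = ⁅g, e⁆ := by rw [(D.conj_K D.comm_mem).1.eq, mul_inv_cancel_right]
  have hd : ∀ v ∈ E, v⁻¹ * (g * v * g⁻¹) ∈ Subgroup.zpowers ⁅g, e⁆ := fun v hv => by
    obtain ⟨i, hi⟩ := D.genE v hv
    have := D.conj_E hi 1
    rw [pow_one] at this
    rw [this, D.commE _ (E.pow_mem ha _) v hv, inv_mul_cancel_left]
    exact Subgroup.pow_mem _ (Subgroup.mem_zpowers _) _
  obtain ⟨τ, hτ, hτa, hτd, hτK⟩ :=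
    exists_torus hS hF D.ess D.exp D.commE D.g_mem D.hgE ha hga hd l
  have hmap := (mem_autGroup_iff hES).1 hτ
  have hK1 : ∀ v ∈ K, ∃ (i : ℕ), ∃ c ∈ K, v = c * ⁅g, e⁆ ^ i ∧ autMap τ c = c := fun v hv => by
    obtain ⟨i, c, hc, h1, h2, h3⟩ :=
      hτK v (D.KE hv) (by rw [(D.conj_K hv).1.eq, mul_inv_cancel_right])
    exact ⟨i, c, D.mem_K_of_fixed hc h3, h1, h2⟩
  have hKm : ∀ v ∈ K, autMap τ v ∈ K := fun v hv => by
    obtain ⟨i, c, hc, rfl, h2⟩ := hK1 v hv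
    rw [hmap.map_mul (D.KE hc) (E.pow_mem ha i), hmap.map_pow ha, hτa, h2]
    exact K.mul_mem hc (K.pow_mem (K.pow_mem D.comm_mem _) _)
  set l' := ((l⁻¹ : (ZMod p)ˣ) : ZMod p).val
  set k := ((l : ZMod p) * l).val
  have hapow : ∀ a b : ℕ, (a : ZMod p) = b → ⁅g, e⁆ ^ a = ⁅g, e⁆ ^ b := fun a b h => by
    rw [ZMod.natCast_eq_natCast_iff'] at h
    rw [pow_eq_pow_mod a (D.exp _ ha), pow_eq_pow_mod b (D.exp _ ha), h]
  have hgτ : ∀ y ∈ E, autMap τ (g * y * g⁻¹) = g ^ k * autMap τ y * (g ^ k)⁻¹ := fun y hy => by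
    obtain ⟨i, hi⟩ := D.genE y hy
    have h1 := D.conj_E hi 1
    rw [pow_one, one_mul] at h1
    set w := (y ^ l')⁻¹ * autMap τ y
    have hw : w ∈ K := D.mem_K_of_fixed (E.mul_mem (E.inv_mem (E.pow_mem hy _)) (autMap_mem τ hy)) (hτd y hy)
    have h2 : (e ^ (i * l'))⁻¹ * autMap τ y ∈ K := by
      rw [show (e ^ (i * l'))⁻¹ * autMap τ y = (e ^ (i * l'))⁻¹ * y ^ l' * w by simp [w, mul_assoc]]
      refine K.mul_mem ?_ hw
      rw [pow_mul]
      obtain ⟨κ, hκ, rfl⟩ : ∃ κ ∈ K, y = e ^ i * κ := ⟨_, hi, (mul_inv_cancel_left _ _).symm⟩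
      rw [((D.conj_K hκ).2.pow_left i).mul_pow, inv_mul_cancel_left]
      exact K.pow_mem hκ _
    rw [h1, hmap.map_mul (E.pow_mem ha i) hy, hmap.map_pow ha, hτa, D.conj_E h2 k, ← pow_mul]
    congr 1
    refine hapow _ _ ?_
    simp only [k, l', Nat.cast_mul, ZMod.natCast_zmod_val]
    linear_combination (-(l : ZMod p) * i) * l.mul_inv
  have hN : ∀ x ∈ Subgroup.zpowers g, InExt S E (autMap τ) x := fun x hx =>
    (mem_extender_iff (φ := E.subtype.comp τ.toMonoidHom) fun y => (autMap_coe τ y).symm).1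
      (Subgroup.zpowers_le.2 ((mem_extender_iff fun y => (autMap_coe τ y).symm).2
        ⟨D.g_mem.1, D.g_mem.2, g ^ k, S.pow_mem (D.leS D.hg) k, hgτ⟩) hx)
  obtain ⟨G, hG, hGe⟩ := receptive_extend (receptive_of_isFullyNormalized hS hF D.ess.2.1)
    (isIso_autMap hES hτ) hN
  have hgm : g ∈ Subgroup.zpowers g ⊔ E := Subgroup.mem_sup_left (Subgroup.mem_zpowers g)
  have hcz : (g ^ k)⁻¹ * G g ∈ E := D.ess.1.2 E (isConj_refl F hES) (FusionSys.mem_centralizerIn.2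
    ⟨S.mul_mem (S.inv_mem (S.pow_mem (D.leS D.hg) k)) (hG.mem_S hgm), fun y hy => by
      obtain ⟨x, hx, rfl⟩ := (isIso_autMap hES hτ).exists_preimage hy
      have h1 := hG.map_conj hgm (Subgroup.mem_sup_right hx)
      rw [hGe _ (conj_mem_of_mem_normalizerIn D.g_mem hx), hGe x hx, hgτ x hx] at h1
      calc autMap τ x * ((g ^ k)⁻¹ * G g) = (g ^ k)⁻¹ * (g ^ k * autMap τ x * (g ^ k)⁻¹) * G g := by group
        _ = (g ^ k)⁻¹ * (G g * autMap τ x * (G g)⁻¹) * G g := by rw [h1]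
        _ = (g ^ k)⁻¹ * G g * autMap τ x := by group⟩)
  obtain ⟨i, hi⟩ := D.genE _ hcz
  obtain ⟨κ, hκ, hGg⟩ : ∃ κ ∈ K, G g = g ^ k * e ^ i * κ := ⟨_, hi, by group⟩
  have hLle : L ≤ Subgroup.zpowers g ⊔ E := fun v hv => by
    obtain ⟨j, hj⟩ := D.genL v hv
    rw [← mul_inv_cancel_left (g ^ j) v]
    exact mul_mem (Subgroup.pow_mem _ hgm j) (Subgroup.mem_sup_right (D.KE hj))
  have hGL := hG.mono hLle
  have himg : ∀ H : Subgroup Ω, K ≤ H → G g ∈ H → ∀ v ∈ L, G v ∈ H := fun H hKH hgH v hv => by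
    obtain ⟨j, hj⟩ := D.genL v hv
    rw [← mul_inv_cancel_left (g ^ j) v, hGL.map_mul (L.pow_mem D.hg j) (D.KL hj),
      hGL.map_pow D.hg, hGe _ (D.KE hj)]
    exact H.mul_mem (H.pow_mem hgH j) (hKH (hKm _ hj))
  have hpi : p ∣ i := by
    by_contra hpi
    obtain ⟨r, hr, hsr⟩ := D.exists_s_pow
    obtain ⟨j, hj⟩ : ∃ j : ℕ, ((j * r * i : ℕ) : ZMod p) = (k : ZMod p) := by
      refine ⟨((k : ZMod p) * ((r : ZMod p) * i)⁻¹).val, ?_⟩
      rw [Nat.cast_mul, Nat.cast_mul, ZMod.natCast_zmod_val, mul_assoc _ (r : ZMod p),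
        inv_mul_cancel_right₀]
      exact mul_ne_zero (fun h => hr ((ZMod.natCast_eq_zero_iff _ _).1 h))
        fun h => hpi ((ZMod.natCast_eq_zero_iff _ _).1 h)
    have hsS : s ^ j ∈ S := S.pow_mem D.hs j
    have hcj := isIso_conj F hES hsS
    set H := imgSub (conjMap (s ^ j)) E
    haveI : Finite K := Finite.of_injective _ (Subgroup.inclusion_injective D.KE)
    have hKH : K ≤ H := by
      intro v hv
      have hsK : s ∈ Subgroup.normalizer (K : Set Ω) := mem_normalizer_of_maps D.sK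
      have := (Subgroup.mem_normalizer_iff.1 (inv_mem (pow_mem hsK j)) v).1 hv
      exact hcj.isMap.mem_imgSub.2 ⟨_, D.KE this, by simp [conjMap, mul_assoc]⟩
    obtain ⟨κ', hκ', hje⟩ := hsr j
    have h1 : e * g ^ (j * r) ∈ H := by
      have : s ^ j * e * (s ^ j)⁻¹ ∈ H := hcj.mem D.he
      rw [hje] at this
      simpa using H.mul_mem this (H.inv_mem (hKH hκ'))
    have hgH : G g ∈ H := by
      rw [hGg]
      refine H.mul_mem ?_ (hKH hκ)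
      obtain ⟨κ'', hκ'', hpe⟩ := D.pow_eg (j * r) i
      have h2 : g ^ (j * r * i) * e ^ i ∈ H := by
        have := H.pow_mem h1 i
        rw [hpe] at this
        simpa using H.mul_mem this (H.inv_mem (hKH hκ''))
      obtain ⟨κ₃, hκ₃, hgk⟩ : ∃ κ₃ ∈ K, g ^ k = g ^ (j * r * i) * κ₃ :=
        ⟨_, D.g_pow_congr hj, (mul_inv_cancel_left _ _).symm⟩
      rw [hgk, mul_assoc, ← ((D.conj_K hκ₃).2.pow_left i).eq, ← mul_assoc]
      exact H.mul_mem h2 (hKH hκ₃)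
    haveI : Finite H := finite_of_le hcj.target_le
    have hLH : IsIso F L H G := by
      refine ⟨hGL, Set.eq_of_subset_of_ncard_le ?_ ?_ (Set.toFinite _)⟩
      · rintro _ ⟨v, hv, rfl⟩
        exact himg H hKH hgH v hv
      · rw [Set.InjOn.ncard_image hGL.injOn, ← Nat.card_coe_set_eq, ← Nat.card_coe_set_eq]
        exact (hcj.card_eq.symm.trans D.card.symm).le
    have hfn := D.ess.2.1.2 L (isConj_trans hcj.isConj (isConj_symm hLH.isConj))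
    rw [show normalizerIn S L = S from inf_eq_left.2 D.norm] at hfn
    exact absurd hfn (not_le_of_gt D.small)
  obtain ⟨q, rfl⟩ := hpi
  rw [pow_mul, D.exp e D.he, one_pow, mul_one] at hGg
  have hgL : G g ∈ L := by rw [hGg]; exact L.mul_mem (L.pow_mem D.hg k) (D.KL hκ)
  obtain ⟨m, hm, hme⟩ := (IsIso.mk hGL (hGL.image_eq_of_mapsTo (himg L D.KL hgL))).exists_aut
  have hmK : ∀ v ∈ K, autMap m v = autMap τ v := fun v hv => (hme v (D.KL hv)).trans (hGe v (D.KE hv))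
  refine ⟨m, hm, (hmK _ D.comm_mem).trans hτa, fun v hv => ?_, ?_⟩
  · obtain ⟨j, c, hc, h1, h2⟩ := hK1 v hv
    exact ⟨j, c, hc, h1, (hmK c hc).trans h2⟩
  · rw [hme g D.hg, hGg, inv_mul_cancel_left]
    exact hκ

end FrameData

end Cfsg.Agent.H91.Small
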