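import Cfsg.Agent.PGroups.MaxClassExponent
import Cfsg.Agent.H91.Replace

/-!
Groups of maximal class, `p` odd: self-centralizing abelian subgroups of order `p ^ 3`.
-/

set_option autoImplicit false
set_option linter.style.haveILetI false
set_option linter.unusedSectionVars false

namespace Cfsg.Agent.H91.Small

open Cfsg.Agent.PGroups Subgroup
open scoped commutatorElement

universe u

variable {G : Type u} [Group G] [Finite G] {p n : ℕ} [hp : Fact p.Prime]

theorem comm_pow {H : Type*} [Group H] {u y c : H} (h : u * y * u⁻¹ = c * y) (hcu : Commute c u)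
    (hcy : Commute c y) (i j : ℕ) : u ^ i * y ^ j * (u ^ i)⁻¹ = c ^ (i * j) * y ^ j := by
  have h1 : u * y ^ j * u⁻¹ = c ^ j * y ^ j := by rw [← conj_pow, h, hcy.mul_pow]
  induction i with
  | zero => simp
  | succ i ih =>
    calc u ^ (i + 1) * y ^ j * (u ^ (i + 1))⁻¹ = u * (u ^ i * y ^ j * (u ^ i)⁻¹) * u⁻¹ := by
          rw [pow_succ']; group
      _ = (u * c ^ (i * j) * u⁻¹) * (u * y ^ j * u⁻¹) := by rw [ih]; group
      _ = c ^ (i * j) * (c ^ j * y ^ j) := by
          rw [h1, ((hcu.pow_left (i * j)).symm).eq, mul_inv_cancel_right]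
      _ = c ^ ((i + 1) * j) * y ^ j := by rw [← mul_assoc, ← pow_add, add_mul, one_mul]

theorem mem_normalizer_of_comm {E : Subgroup G} {g : G} (h : ∀ v ∈ E, ⁅g, v⁆ ∈ E) :
    g ∈ Subgroup.normalizer (E : Set G) := by
  refine Subgroup.mem_normalizer_iff_map_conj_eq.2 (Subgroup.eq_of_le_of_card_ge ?_
    (le_of_eq (Subgroup.card_map_of_injective (MulAut.conj g).injective).symm))
  rintro _ ⟨v, hv, rfl⟩
  show g * v * g⁻¹ ∈ E
  have := E.mul_mem (h v hv) hv
  rwa [commutatorElement_def, inv_mul_cancel_right] at this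

theorem comm_mem_symm {K : Subgroup G} {u v : G} (h : ⁅u, v⁆ ∈ K) : ⁅v, u⁆ ∈ K := by
  rw [← commutatorElement_inv]; exact K.inv_mem h

section Basic

variable (M : MaxClassGrp G p n) (hp2 : p ≠ 2)
include M

theorem mem_C2_iff (h : 4 ≤ n) {g : G} :
    g ∈ layerCent G (n - 2) ↔ ∀ w ∈ lcsFil G (n - 2), Commute g w := by
  rw [mem_layerCent, show n - 2 + 2 = n by omega, M.lcsFil_eq_bot le_rfl]
  simp only [Subgroup.mem_bot, commutatorElement_eq_one_iff_commute]

theorem eq_one_of_mem {i : ℕ} (hi : n ≤ i) {w : G} (hw : w ∈ lcsFil G i) : w = 1 := by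
  rwa [M.lcsFil_eq_bot hi, Subgroup.mem_bot] at hw

theorem comm_eq_one {i j : ℕ} (hij : n ≤ i + j) {u v : G} (hu : u ∈ lcsFil G i) (hv : v ∈ lcsFil G j) :
    Commute u v :=
  commutatorElement_eq_one_iff_commute.1 (eq_one_of_mem M hij (commutatorElement_mem_lcsFil hu hv))

theorem exists_exact {i : ℕ} (hi : 1 ≤ i) (hin : i < n) : ∃ v ∈ lcsFil G i, v ∉ lcsFil G (i + 1) :=
  SetLike.exists_of_lt (M.lt_step hi hin)

theorem central_last {z : G} (hz : z ∈ lcsFil G (n - 1)) (y : G) : Commute z y :=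
  comm_eq_one M (j := 1) (by omega) hz (by simp [lcsFil_one])

include hp2

theorem C1_shift {i : ℕ} (hi : 2 ≤ i) (hin : i + 3 ≤ n) {c : G} (hc : c ∈ layerCent G 2) {w : G}
    (hw : w ∈ lcsFil G i) : ⁅c, w⁆ ∈ lcsFil G (i + 2) :=
  mem_layerCent.1 (MaxClassGrp.layerCent_two_le hp2 n M i hi hin hc) w hw

theorem not_mem_layer {i : ℕ} (hi : 2 ≤ i) (hin : i + 3 ≤ n) {x : G} (hx : x ∉ layerCent G 2)
    {v : G} (hv : v ∈ lcsFil G i) (hv' : v ∉ lcsFil G (i + 1)) : ⁅x, v⁆ ∉ lcsFil G (i + 2) := fun h => by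
  have he := M.layerCent_eq_of_le (i := 2) le_rfl (by omega) hi (by omega)
    (MaxClassGrp.layerCent_two_le hp2 n M i hi hin)
  exact hx (he ▸ M.mem_layerCent_of_gen hi (by omega) hv hv' h)

omit hp2

theorem top_layer {C : Subgroup G} (h2 : lcsFil G 2 ≤ C) (hC : Nat.card C = p ^ (n - 1)) {c x : G}
    (hc : c ∈ C) (hc2 : c ∉ lcsFil G 2) (hx : x ∉ C) : ⁅x, c⁆ ∉ lcsFil G 3 := by
  have h4 := M.four_le
  intro h
  haveI := lcsFil_normal (G := G) 3
  set q := QuotientGroup.mk' (lcsFil G 3)
  have hC' : lcsFil G 2 ⊔ zpowers c = C := by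
    refine Subgroup.eq_of_le_of_card_ge (sup_le h2 (zpowers_le.2 hc)) ?_
    have hlt : lcsFil G 2 < lcsFil G 2 ⊔ zpowers c := lt_of_le_of_ne le_sup_left fun he =>
      hc2 (he ▸ Subgroup.mem_sup_right (mem_zpowers c))
    have := M.mul_card_le_of_lt hlt
    rwa [M.card_lcsFil le_rfl (by omega), ← pow_succ', show n - 2 + 1 = n - 1 by omega, ← hC] at this
  have htop : C ⊔ zpowers x = ⊤ := by
    refine Subgroup.eq_top_of_le_card _ ?_
    have hlt : C < C ⊔ zpowers x := lt_of_le_of_ne le_sup_left fun he =>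
      hx (he ▸ Subgroup.mem_sup_right (mem_zpowers x))
    have := M.mul_card_le_of_lt hlt
    rwa [hC, ← pow_succ', show n - 1 + 1 = n by omega, ← M.card] at this
  have hL2 : ∀ v ∈ lcsFil G 2, ∀ y, q v * q y = q y * q v := fun v hv y => by
    rw [← commutatorElement_eq_one_iff_mul_comm, ← map_commutatorElement]
    exact (QuotientGroup.eq_one_iff _).2 (commutatorElement_mem_lcsFil (j := 1) hv (by simp [lcsFil_one]))
  have hxc : q x * q c = q c * q x := by
    rw [← commutatorElement_eq_one_iff_mul_comm, ← map_commutatorElement]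
    exact (QuotientGroup.eq_one_iff _).2 h
  have hgen : ∀ {s : G}, q s * q x = q x * q s → q s * q c = q c * q s → ∀ y, q s * q y = q y * q s := by
    intro s h1 h2' y
    have : (⊤ : Subgroup G) ≤ (Subgroup.centralizer {q s}).comap q := by
      rw [← htop, ← hC']
      refine sup_le (sup_le (fun v hv => ?_) (zpowers_le.2 ?_)) (zpowers_le.2 ?_) <;>
        refine Subgroup.mem_centralizer_singleton_iff.2 ?_
      · exact hL2 v hv s
      · exact h2'.symm
      · exact h1.symm
    exact (Subgroup.mem_centralizer_singleton_iff.1 (this (Subgroup.mem_top y))).symm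
  have hall : ∀ u y, q u * q y = q y * q u := fun u =>
    hgen (hgen (s := x) rfl hxc u).symm (hgen (s := c) hxc.symm rfl u).symm
  obtain ⟨v, hv, hv'⟩ := exists_exact M (i := 2) (by omega) (by omega)
  refine hv' ((QuotientGroup.eq_one_iff v).1 ?_)
  have : commutator G ≤ q.ker := by
    rw [commutator_def, Subgroup.commutator_le]
    intro a _ b _
    rw [MonoidHom.mem_ker, map_commutatorElement, commutatorElement_eq_one_iff_mul_comm]
    exact hall a b
  exact this (lcsFil_two (G := G) ▸ hv)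

theorem inf_eq_two (h : layerCent G 2 ≠ layerCent G (n - 2)) {v : G} (h1 : v ∈ layerCent G 2)
    (h2 : v ∈ layerCent G (n - 2)) : v ∈ lcsFil G 2 := by
  have h4 := M.four_le
  by_contra hv
  have key : ∀ i, 2 ≤ i → i + 2 ≤ n → v ∈ layerCent G i → layerCent G i = lcsFil G 2 ⊔ zpowers v := by
    intro i hi hin hvi
    refine (Subgroup.eq_of_le_of_card_ge (sup_le (MaxClassGrp.lcsFil_two_le_layerCent i) (zpowers_le.2 hvi)) ?_).symm
    have hlt : lcsFil G 2 < lcsFil G 2 ⊔ zpowers v := lt_of_le_of_ne le_sup_left fun he =>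
      hv (he ▸ Subgroup.mem_sup_right (mem_zpowers v))
    have := M.mul_card_le_of_lt hlt
    rwa [M.card_lcsFil le_rfl (by omega), ← pow_succ', show n - 2 + 1 = n - 1 by omega,
      ← M.layerCent_card hi hin] at this
  exact h ((key 2 le_rfl h4 h1).trans (key (n - 2) (by omega) (by omega) h2).symm)

include hp2

/-- If the second layer centralizes the last but two, the two centralizers coincide. -/
theorem C1_le_C2 (h5 : 5 ≤ n) (h : ∀ u ∈ lcsFil G 2, ∀ v ∈ lcsFil G (n - 3), Commute u v) :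
    layerCent G 2 ≤ layerCent G (n - 2) := by
  have key : ⁅⁅lcsFil G (n - 3), (⊤ : Subgroup G)⁆, layerCent G 2⁆ = ⊥ := by
    refine Subgroup.commutator_commutator_eq_bot_of_rotate ?_ ?_
    · refine le_bot_iff.1 ((Subgroup.commutator_mono (K₂ := lcsFil G (n - 3))
        (show ⁅(⊤ : Subgroup G), layerCent G 2⁆ ≤ lcsFil G 2 by
          rw [lcsFil_two, commutator_def]; exact Subgroup.commutator_mono le_rfl le_top) le_rfl).trans ?_)
      rw [Subgroup.commutator_le]
      intro u hu v hv
      exact Subgroup.mem_bot.2 (commutatorElement_eq_one_iff_commute.2 (h u hu v hv))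
    · refine le_bot_iff.1 ((Subgroup.commutator_mono (K₂ := ⊤)
        (show ⁅layerCent G 2, lcsFil G (n - 3)⁆ ≤ lcsFil G (n - 1) by
          rw [Subgroup.commutator_le]
          intro c hc w hw
          have := C1_shift M hp2 (i := n - 3) (by omega) (by omega) hc hw
          rwa [show n - 3 + 2 = n - 1 by omega] at this) le_rfl).trans ?_)
      rw [Subgroup.commutator_le]
      intro u hu v _
      exact Subgroup.mem_bot.2 (commutatorElement_eq_one_iff_commute.2 (central_last M hu v))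
  intro c hc
  refine (mem_C2_iff M (by omega)).2 fun w hw => Commute.symm (commutatorElement_eq_one_iff_commute.1 ?_)
  rw [show n - 2 = n - 3 + 1 by omega, PGroups.lcsFil_succ (by omega)] at hw
  exact Subgroup.mem_bot.1 (key ▸ Subgroup.commutator_mem_commutator hw hc)

/-- For odd `n` the two centralizers coincide. -/
theorem centralizers_eq_of_odd (h5 : 5 ≤ n) (hodd : n % 2 = 1) :
    layerCent G 2 = layerCent G (n - 2) := by
  obtain ⟨m, hm⟩ : ∃ m, n = 2 * m + 1 := ⟨n / 2, by omega⟩
  have hstep : ∀ d i, i + d = m → 2 ≤ i →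
      ∀ u ∈ lcsFil G i, ∀ v ∈ lcsFil G (n - 1 - i), Commute u v := by
    intro d
    induction d with
    | zero =>
      intro i hi h2 u hu v hv
      obtain rfl : i = m := by omega
      rw [show n - 1 - i = i by omega] at hv
      obtain ⟨e, he, he'⟩ := exists_exact M (i := i) (by omega) (by omega)
      obtain ⟨k, hk⟩ := M.exists_pow_layer h2 (by omega) he he' hu
      obtain ⟨l, hl⟩ := M.exists_pow_layer h2 (by omega) he he' hv
      rw [show u = e ^ k * ((e ^ k)⁻¹ * u) by group, show v = e ^ l * ((e ^ l)⁻¹ * v) by group]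
      refine Commute.mul_left (Commute.mul_right ((Commute.refl e).pow_pow k l) ?_) (Commute.mul_right ?_ ?_)
      · exact comm_eq_one M (by omega) (pow_mem he k) hl
      · exact comm_eq_one M (by omega) hk (pow_mem he l)
      · exact comm_eq_one M (by omega) hk hl
    | succ d ih =>
      intro i hi h2 u hu v hv
      have hj : n - 1 - i = n - 2 - i + 1 := by omega
      have key : ⁅⁅lcsFil G (n - 2 - i), (⊤ : Subgroup G)⁆, lcsFil G i⁆ = ⊥ := by
        refine Subgroup.commutator_commutator_eq_bot_of_rotate ?_ ?_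
        · refine le_bot_iff.1 ((Subgroup.commutator_mono (K₂ := lcsFil G (n - 2 - i))
            (show ⁅(⊤ : Subgroup G), lcsFil G i⁆ ≤ lcsFil G (i + 1) by
              rw [Subgroup.commutator_le]
              intro a _ b hb
              exact comm_mem_symm (commutatorElement_mem_lcsFil (j := 1) hb (by simp [lcsFil_one]))) le_rfl).trans ?_)
          rw [Subgroup.commutator_le]
          intro a ha b hb
          refine Subgroup.mem_bot.2 (commutatorElement_eq_one_iff_commute.2
            (ih (i + 1) (by omega) (by omega) a ha b ?_))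
          rwa [show n - 1 - (i + 1) = n - 2 - i by omega]
        · refine le_bot_iff.1 ((Subgroup.commutator_mono (K₂ := ⊤)
            (show ⁅lcsFil G i, lcsFil G (n - 2 - i)⁆ ≤ lcsFil G (n - 1) by
              rw [Subgroup.commutator_le]
              intro a ha b hb
              have := M.shift_mem hp2 (i := i) (j := n - 2 - i)
                (MaxClassGrp.lcsFil_two_le_layerCent 2 (lcsFil_antitone h2 ha)) ha
                (MaxClassGrp.lcsFil_two_le_layerCent 2 (lcsFil_antitone (by omega) hb)) hb (by omega)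
              rwa [show i + (n - 2 - i) + 1 = n - 1 by omega] at this) le_rfl).trans ?_)
          rw [Subgroup.commutator_le]
          intro a ha b _
          exact Subgroup.mem_bot.2 (commutatorElement_eq_one_iff_commute.2 (central_last M ha b))
      rw [hj, PGroups.lcsFil_succ (by omega)] at hv
      exact (commutatorElement_eq_one_iff_commute.1
        (Subgroup.mem_bot.1 (key ▸ Subgroup.commutator_mem_commutator hv hu))).symm
  refine M.layerCent_eq_of_le le_rfl (by omega) (by omega) (by omega)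
    (C1_le_C2 M hp2 h5 fun u hu v hv => ?_)
  exact hstep (m - 2) 2 (by omega) le_rfl u hu v (by rwa [show n - 1 - 2 = n - 3 by omega])

end Basic

/-- A normalizer of order at least `p ^ 5` containing a transvection with central centre. -/
def Big (p : ℕ) (E : Subgroup G) : Prop :=
  ∃ g a, g ∈ Subgroup.normalizer (E : Set G) ∧ g ∉ E ∧ a ∈ E ∧ (∀ y, Commute a y) ∧
    (∀ v ∈ E, ⁅g, v⁆ ∈ zpowers a) ∧ p ^ 5 ≤ Nat.card (Subgroup.normalizer (E : Set G))

section Abelian

variable (M : MaxClassGrp G p n) (hp2 : p ≠ 2) (h5 : 5 ≤ n) {E : Subgroup G}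
  (hab : ∀ u ∈ E, ∀ v ∈ E, Commute u v) (hc : Subgroup.centralizer (E : Set G) ≤ E)
  (hcard : Nat.card E = p ^ 3)
include M hp2 h5 hab hc hcard

theorem last_le : lcsFil G (n - 1) ≤ E := fun _ hz =>
  hc (Subgroup.mem_centralizer_iff.2 fun y _ => (central_last M hz y).symm.eq)

theorem big_of {g w : G} (hg : g ∈ Subgroup.normalizer (E : Set G)) (hgE : g ∉ E)
    (hd : ∀ v ∈ E, ⁅g, v⁆ ∈ lcsFil G (n - 1)) (hw : w ∈ Subgroup.normalizer (E : Set G))
    (hwE : w ∉ E ⊔ zpowers g) : Big p E := by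
  have h4 := M.four_le
  obtain ⟨z, hz, hz'⟩ := exists_exact M (i := n - 1) (by omega) (by omega)
  have hz1 : z ≠ 1 := fun h => hz' (h ▸ one_mem _)
  have hgen : zpowers z = lcsFil G (n - 1) := by
    refine Subgroup.eq_of_le_of_card_ge (zpowers_le.2 hz) ?_
    have hlt : (⊥ : Subgroup G) < zpowers z := bot_lt_iff_ne_bot.2 (by simpa [zpowers_eq_bot] using hz1)
    have := M.mul_card_le_of_lt hlt
    rw [Subgroup.card_bot, mul_one] at this
    rwa [M.card_lcsFil (by omega) (by omega), show n - (n - 1) = 1 by omega, pow_one]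
  refine ⟨g, z, hg, hgE, last_le M hp2 h5 hab hc hcard hz, central_last M hz, fun v hv => hgen ▸ hd v hv, ?_⟩
  have h1 : E < E ⊔ zpowers g := lt_of_le_of_ne le_sup_left fun he =>
    hgE (he ▸ Subgroup.mem_sup_right (mem_zpowers g))
  have hle : E ⊔ zpowers g ≤ Subgroup.normalizer (E : Set G) :=
    sup_le Subgroup.le_normalizer (zpowers_le.2 hg)
  have h2 : E ⊔ zpowers g < Subgroup.normalizer (E : Set G) := lt_of_le_of_ne hle fun he => hwE (he.symm ▸ hw)
  have h1' := M.mul_card_le_of_lt h1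
  rw [hcard] at h1'
  calc p ^ 5 = p * (p * p ^ 3) := by ring
    _ ≤ p * Nat.card ↥(E ⊔ zpowers g) := Nat.mul_le_mul_left p h1'
    _ ≤ _ := M.mul_card_le_of_lt h2

/-- An element of `E ⊔ X` lying in `K` lies in `X`, for `X ≤ K` normal and `E ⊓ K ≤ X`. -/
theorem mem_of_sup {X K : Subgroup G} [X.Normal] (hXK : X ≤ K) (hEK : E ⊓ K ≤ X) {w : G}
    (hw : w ∈ E ⊔ X) (hwK : w ∈ K) : w ∈ X := by
  obtain ⟨e, he, x, hx, rfl⟩ := Subgroup.mem_sup_of_normal_right.1 hw
  exact X.mul_mem (hEK ⟨he, by simpa using K.mul_mem hwK (K.inv_mem (hXK hx))⟩) hx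

theorem inf_card {K : Subgroup G} (hK : lcsFil G (n - 2) ≤ E ⊓ K) (hne : ¬ E ≤ K) :
    E ⊓ K = lcsFil G (n - 2) := by
  refine (Subgroup.eq_of_le_of_card_ge hK ?_).symm
  have hlt : E ⊓ K < E := lt_of_le_of_ne inf_le_left fun he => hne (he ▸ inf_le_right)
  have h := M.mul_card_le_of_lt hlt
  rw [hcard, show p ^ 3 = p * p ^ 2 by ring] at h
  rw [M.card_lcsFil (by omega) (by omega), show n - (n - 2) = 2 by omega]
  exact Nat.le_of_mul_le_mul_left h hp.out.pos

theorem big_of_eq (h : E = lcsFil G (n - 3)) : Big p E := by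
  have h4 := M.four_le
  haveI := lcsFil_normal (G := G) (n - 3)
  obtain ⟨g, C, hgC, hC, hgE, hEC, hd⟩ : ∃ g, ∃ C : Subgroup G, g ∈ C ∧ C ≠ ⊤ ∧ g ∉ E ∧ E ≤ C ∧
      ∀ v ∈ E, ⁅g, v⁆ ∈ lcsFil G (n - 1) := by
    rcases Nat.eq_or_lt_of_le h5 with h6 | h6
    · have hlt : lcsFil G 2 < layerCent G 2 := lt_of_le_of_ne (MaxClassGrp.lcsFil_two_le_layerCent 2) fun he => by
        have h1 := M.layerCent_card (i := 2) le_rfl h4
        rw [← he, M.card_lcsFil le_rfl (by omega)] at h1
        exact absurd (Nat.pow_right_injective hp.out.two_le h1) (by omega)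
      obtain ⟨g, hg, hg'⟩ := SetLike.exists_of_lt hlt
      refine ⟨g, layerCent G 2, hg, fun he => ?_, by rwa [h, show n - 3 = 2 by omega],
        by rw [h, show n - 3 = 2 by omega]; exact MaxClassGrp.lcsFil_two_le_layerCent 2, fun v hv => ?_⟩
      · have h1 := M.layerCent_index (i := 2) le_rfl h4
        rw [he, Subgroup.index_top] at h1
        exact hp.out.one_lt.ne h1
      · rw [h, show n - 3 = 2 by omega] at hv
        rw [show n - 1 = 2 + 2 by omega]
        exact mem_layerCent.1 hg v hv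
    · obtain ⟨g, hg, hg'⟩ := exists_exact M (i := n - 4) (by omega) (by omega)
      refine ⟨g, lcsFil G (n - 4), hg, fun he => ?_, by rwa [h, show n - 3 = n - 4 + 1 by omega],
        by rw [h]; exact lcsFil_antitone (by omega), fun v hv => ?_⟩
      · have h1 := M.card_lcsFil (i := n - 4) (by omega) (by omega)
        rw [he, Subgroup.card_top, M.card] at h1
        exact absurd (Nat.pow_right_injective hp.out.two_le h1) (by omega)
      · rw [h] at hv
        exact lcsFil_antitone (by omega) (commutatorElement_mem_lcsFil hg hv)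
  have hEn : Subgroup.normalizer (E : Set G) = ⊤ := by rw [h]; exact Subgroup.normalizer_eq_top _
  obtain ⟨w, -, hw⟩ := SetLike.exists_of_lt
    (lt_top_iff_ne_top.2 fun he => hC (top_le_iff.1 (he ▸ sup_le hEC (zpowers_le.2 hgC))))
  exact big_of M hp2 h5 hab hc hcard (hEn ▸ mem_top g) hgE hd (hEn ▸ mem_top w) hw

theorem big_of_le_two (hE : E ≤ lcsFil G 2) (hZ : lcsFil G (n - 2) ≤ E) : Big p E := by
  have h4 := M.four_le
  have hcard3 : Nat.card (lcsFil G (n - 3)) = p ^ 3 := by
    rw [M.card_lcsFil (by omega) (by omega), show n - (n - 3) = 3 by omega]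
  by_cases h3 : lcsFil G (n - 3) ≤ E
  · exact big_of_eq M hp2 h5 hab hc hcard
      (Subgroup.eq_of_le_of_card_ge h3 (hcard.trans hcard3.symm).le).symm
  have h6 : 6 ≤ n := by
    by_contra h6
    rw [show n - 3 = 2 by omega] at h3 hcard3
    exact h3 (Subgroup.eq_of_le_of_card_ge hE (hcard3.trans hcard.symm).le).ge
  have hL3 : ¬ E ≤ lcsFil G 3 := fun h => h3 fun v hv =>
    hc (Subgroup.mem_centralizer_iff.2 fun e he => (comm_eq_one M (by omega) (h he) hv).eq)
  have hinf : E ⊓ lcsFil G 3 = lcsFil G (n - 2) :=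
    inf_card M hp2 h5 hab hc hcard (le_inf hZ (lcsFil_antitone (by omega))) hL3
  obtain ⟨g, hg, hgE⟩ := SetLike.not_le_iff_exists.1 h3
  have hd : ∀ v ∈ E, ⁅g, v⁆ ∈ lcsFil G (n - 1) := fun v hv =>
    lcsFil_antitone (by omega) (commutatorElement_mem_lcsFil hg (hE hv))
  have hgn : g ∈ Subgroup.normalizer (E : Set G) :=
    mem_normalizer_of_comm fun v hv => last_le M hp2 h5 hab hc hcard (hd v hv)
  haveI := lcsFil_normal (G := G) (n - 3)
  rcases Nat.eq_or_lt_of_le h6 with h7 | h7
  · obtain ⟨w, hw, hw2⟩ := SetLike.exists_of_lt (lt_of_le_of_ne (MaxClassGrp.lcsFil_two_le_layerCent (G := G) 2)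
      fun he => by
        have h1 := M.layerCent_card (i := 2) le_rfl h4
        rw [← he, M.card_lcsFil le_rfl (by omega)] at h1
        exact absurd (Nat.pow_right_injective hp.out.two_le h1) (by omega))
    refine big_of M hp2 h5 hab hc hcard hgn hgE hd
      (mem_normalizer_of_comm fun v hv => hZ (by
        rw [show n - 2 = 2 + 2 by omega]; exact mem_layerCent.1 hw v (hE hv))) fun h => hw2 ?_
    exact sup_le hE (zpowers_le.2 (lcsFil_antitone (by omega) hg)) h
  · obtain ⟨w, hw, hw2⟩ := exists_exact M (i := n - 4) (by omega) (by omega)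
    refine big_of M hp2 h5 hab hc hcard hgn hgE hd
      (mem_normalizer_of_comm fun v hv => hZ (lcsFil_antitone (by omega)
        (commutatorElement_mem_lcsFil hw (hE hv)))) fun h => hw2 ?_
    rw [show n - 4 + 1 = n - 3 by omega]
    exact mem_of_sup M hp2 h5 hab hc hcard (K := lcsFil G 3) (lcsFil_antitone (by omega))
      (hinf.le.trans (lcsFil_antitone (by omega)))
      (sup_le le_sup_left (zpowers_le.2 (Subgroup.mem_sup_right hg)) h) (lcsFil_antitone (by omega) hw)

/-- The possibilities. -/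
theorem classify (hexp : ∀ v ∈ E, v ^ p = 1) : Big p E ∨
    (n = 5 ∧ layerCent G 2 = layerCent G (n - 2) ∧ lcsFil G (n - 2) ≤ E ∧
      ∃ e ∈ E, e ∈ layerCent G 2 ∧ e ∉ lcsFil G 2) ∨
    (6 ≤ n ∧ n % 2 = 0 ∧ layerCent G 2 ≠ layerCent G (n - 2) ∧ lcsFil G (n - 2) ≤ E ∧
      E ≤ layerCent G (n - 2) ∧ ∃ e ∈ E, e ∉ layerCent G 2) ∨
    (6 ≤ n ∧ layerCent G 2 ≠ layerCent G (n - 2) ∧ E ≤ layerCent G 2 ∧ ¬ lcsFil G (n - 2) ≤ E ∧
      E ⊓ lcsFil G 2 ≤ lcsFil G (n - 3) ∧ Nat.card ↥(E ⊓ lcsFil G 2) = p ^ 2 ∧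
      ∃ s ∈ lcsFil G (n - 4), ∃ v ∈ E, ⁅s, v⁆ ∉ E) := by
  have h4 := M.four_le
  have hsplit : E ≤ layerCent G 2 ∨ E ≤ layerCent G (n - 2) := by
    by_contra h
    rw [not_or] at h
    obtain ⟨u, hu, hu'⟩ := SetLike.not_le_iff_exists.1 h.1
    obtain ⟨v, hv, hv'⟩ := SetLike.not_le_iff_exists.1 h.2
    obtain ⟨x, hx, h1, h2⟩ : ∃ x ∈ E, x ∉ layerCent G 2 ∧ x ∉ layerCent G (n - 2) := by
      by_cases hu2 : u ∈ layerCent G (n - 2)
      · by_cases hv1 : v ∈ layerCent G 2
        · exact ⟨u * v, E.mul_mem hu hv, fun h => hu' (by simpa using (layerCent G 2).mul_mem h ((layerCent G 2).inv_mem hv1)),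
            fun h => hv' (by simpa using (layerCent G (n - 2)).mul_mem ((layerCent G (n - 2)).inv_mem hu2) h)⟩
        · exact ⟨v, hv, hv1, hv'⟩
      · exact ⟨u, hu, hu', hu2⟩
    have hle := Subgroup.card_le_of_le (show E ≤ centralizer ({x} : Set G) from fun y hy =>
      Subgroup.mem_centralizer_singleton_iff.2 (hab y hy x hx).eq)
    rw [hcard, (M.pair_of_notMem hp2 h1 h2).cent] at hle
    exact absurd hle (Nat.pow_lt_pow_right hp.out.one_lt (by omega)).not_ge
  have hodd : layerCent G 2 ≠ layerCent G (n - 2) → 6 ≤ n ∧ n % 2 = 0 := fun hne => by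
    by_contra h
    exact hne (centralizers_eq_of_odd M hp2 h5 (by omega))
  haveI := lcsFil_normal (G := G) (n - 3)
  haveI := lcsFil_normal (G := G) (n - 2)
  by_cases hZ : lcsFil G (n - 2) ≤ E
  · have hEC : E ≤ layerCent G (n - 2) := fun v hv =>
      (mem_C2_iff M h4).2 fun w hw => hab v hv w (hZ hw)
    by_cases hE2 : E ≤ lcsFil G 2
    · exact Or.inl (big_of_le_two M hp2 h5 hab hc hcard hE2 hZ)
    obtain ⟨e, he, he2⟩ := SetLike.not_le_iff_exists.1 hE2
    have hinf : E ⊓ lcsFil G 2 = lcsFil G (n - 2) :=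
      inf_card M hp2 h5 hab hc hcard (le_inf hZ (lcsFil_antitone (by omega))) hE2
    by_cases he1 : e ∈ layerCent G 2
    · have heq : layerCent G 2 = layerCent G (n - 2) := by
        by_contra hne
        exact he2 (inf_eq_two M hne he1 (hEC he))
      rcases Nat.eq_or_lt_of_le h5 with h6 | h6
      · exact Or.inr (Or.inl ⟨h6.symm, heq, hZ, e, he, he1, he2⟩)
      obtain ⟨g, hg, hg'⟩ := exists_exact M (i := n - 3) (by omega) (by omega)
      obtain ⟨w, hw, hw'⟩ := exists_exact M (i := n - 4) (by omega) (by omega)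
      have hd : ∀ v ∈ E, ⁅g, v⁆ ∈ lcsFil G (n - 1) := fun v hv => by
        have := C1_shift M hp2 (i := n - 3) (by omega) (by omega) (heq.ge (hEC hv)) hg
        rw [show n - 3 + 2 = n - 1 by omega] at this
        exact comm_mem_symm this
      have hgE : g ∉ E := fun h => hg' (by
        rw [show n - 3 + 1 = n - 2 by omega]
        exact hinf.le ⟨h, lcsFil_antitone (by omega) hg⟩)
      refine Or.inl (big_of M hp2 h5 hab hc hcard
        (mem_normalizer_of_comm fun v hv => last_le M hp2 h5 hab hc hcard (hd v hv)) hgE hd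
        (mem_normalizer_of_comm fun v hv => hZ (comm_mem_symm (by
          have := C1_shift M hp2 (i := n - 4) (by omega) (by omega) (heq.ge (hEC hv)) hw
          rwa [show n - 4 + 2 = n - 2 by omega] at this))) fun h => hw' ?_)
      rw [show n - 4 + 1 = n - 3 by omega]
      exact mem_of_sup M hp2 h5 hab hc hcard (K := lcsFil G 2) (lcsFil_antitone (by omega))
        (hinf.le.trans (lcsFil_antitone (by omega)))
        (sup_le le_sup_left (zpowers_le.2 (Subgroup.mem_sup_right hg)) h) (lcsFil_antitone (by omega) hw)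
    · have hne : layerCent G 2 ≠ layerCent G (n - 2) := fun h => he1 (h.ge (hEC he))
      exact Or.inr (Or.inr (Or.inl ⟨(hodd hne).1, (hodd hne).2, hne, hZ, hEC, e, he, he1⟩))
  · have hE2 : ¬ E ≤ layerCent G (n - 2) := fun h => hZ fun w hw =>
      hc (Subgroup.mem_centralizer_iff.2 fun v hv => ((mem_C2_iff M h4).1 (h hv) w hw).eq)
    have hE1 := hsplit.resolve_right hE2
    have hne : layerCent G 2 ≠ layerCent G (n - 2) := fun h => hE2 (h ▸ hE1)
    obtain ⟨h6, -⟩ := hodd hne
    obtain ⟨g, hg, hgE⟩ := SetLike.not_le_iff_exists.1 hZ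
    have hd : ∀ v ∈ E, ⁅g, v⁆ ∈ lcsFil G (n - 1) := fun v _ => by
      have h := commutatorElement_mem_lcsFil (j := 1) (y := v) hg (by simp [lcsFil_one])
      rwa [show n - 2 + 1 = n - 1 by omega] at h
    have hgn : g ∈ Subgroup.normalizer (E : Set G) :=
      mem_normalizer_of_comm fun v hv => last_le M hp2 h5 hab hc hcard (hd v hv)
    haveI := lcsFil_normal (G := G) 2
    have hE2' : ¬ E ≤ lcsFil G 2 := fun h => hE2 (h.trans (MaxClassGrp.lcsFil_two_le_layerCent _))
    have hc2 : Nat.card ↥(E ⊓ lcsFil G 2) = p ^ 2 := by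
      have h := card_sup_mul_card_inf' (A := lcsFil G 2) (X := E) (by
        rw [Subgroup.normalizer_eq_top]; exact le_top)
      have hle : Nat.card ↥(lcsFil G 2 ⊔ E) ≤ p ^ (n - 1) :=
        M.layerCent_card (i := 2) le_rfl h4 ▸ Subgroup.card_le_of_le (sup_le (MaxClassGrp.lcsFil_two_le_layerCent 2) hE1)
      rw [M.card_lcsFil le_rfl (by omega), hcard, inf_comm, ← pow_add] at h
      have hlt : E ⊓ lcsFil G 2 < E := lt_of_le_of_ne inf_le_left fun he => hE2' (he ▸ inf_le_right)
      have h2 := M.mul_card_le_of_lt hlt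
      rw [hcard, show p ^ 3 = p * p ^ 2 by ring] at h2
      refine le_antisymm (Nat.le_of_mul_le_mul_left h2 hp.out.pos) ?_
      refine Nat.le_of_mul_le_mul_left ?_ (pow_pos hp.out.pos (n - 1))
      rw [← pow_add, show n - 1 + 2 = n - 2 + 3 by omega, ← h]
      exact Nat.mul_le_mul_right _ hle
    by_cases hA : E ⊓ lcsFil G 2 ≤ lcsFil G (n - 3)
    · by_cases hw : ∀ s ∈ lcsFil G (n - 4), ∀ v ∈ E, ⁅s, v⁆ ∈ E
      · obtain ⟨w, hw4, hw'⟩ := exists_exact M (i := n - 4) (by omega) (by omega)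
        refine Or.inl (big_of M hp2 h5 hab hc hcard hgn hgE hd
          (mem_normalizer_of_comm (hw w hw4)) fun h => hw' ?_)
        rw [show n - 4 + 1 = n - 3 by omega]
        exact mem_of_sup M hp2 h5 hab hc hcard (K := lcsFil G 2) (lcsFil_antitone (by omega)) hA
          (sup_le le_sup_left (zpowers_le.2 (Subgroup.mem_sup_right (lcsFil_antitone (by omega) hg))) h)
          (lcsFil_antitone (by omega) hw4)
      · push Not at hw
        exact Or.inr (Or.inr (Or.inr ⟨h6, hne, hE1, hZ, hA, hc2, hw⟩))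
    · obtain ⟨f, hf, hf'⟩ := SetLike.not_le_iff_exists.1 hA
      obtain ⟨w, hw, hwX⟩ : ∃ w ∈ lcsFil G (n - 3), w ∉ E ⊔ zpowers g := by
        by_contra hall
        push Not at hall
        have hX : Nat.card ↥(E ⊔ lcsFil G (n - 2)) ≤ p ^ 4 := by
          have h := card_sup_mul_card_inf' (A := lcsFil G (n - 2)) (X := E) (by
            rw [Subgroup.normalizer_eq_top]; exact le_top)
          rw [M.card_lcsFil (by omega) (by omega), show n - (n - 2) = 2 by omega, hcard, sup_comm] at h
          have hZl : p ≤ Nat.card ↥(lcsFil G (n - 2) ⊓ E) := by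
            have := Subgroup.card_le_of_le (show lcsFil G (n - 1) ≤ lcsFil G (n - 2) ⊓ E from
              le_inf (lcsFil_antitone (by omega)) (last_le M hp2 h5 hab hc hcard))
            rwa [M.card_lcsFil (by omega) (by omega), show n - (n - 1) = 1 by omega, pow_one] at this
          refine Nat.le_of_mul_le_mul_right ?_ hp.out.pos
          calc Nat.card ↥(E ⊔ lcsFil G (n - 2)) * p
              ≤ Nat.card ↥(E ⊔ lcsFil G (n - 2)) * Nat.card ↥(lcsFil G (n - 2) ⊓ E) :=
                Nat.mul_le_mul_left _ hZl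
            _ = p ^ 4 * p := by rw [h]; ring
        have hle : lcsFil G (n - 3) ⊔ zpowers f ≤ (E ⊔ lcsFil G (n - 2)) ⊓ lcsFil G 2 :=
          sup_le (le_inf (fun v hv => sup_le le_sup_left (zpowers_le.2 (Subgroup.mem_sup_right hg))
            (hall v hv)) (lcsFil_antitone (by omega))) (zpowers_le.2 ⟨Subgroup.mem_sup_left hf.1, hf.2⟩)
        have h1 : lcsFil G (n - 3) < lcsFil G (n - 3) ⊔ zpowers f := lt_of_le_of_ne le_sup_left fun he =>
          hf' (he ▸ Subgroup.mem_sup_right (mem_zpowers f))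
        have h2 := M.mul_card_le_of_lt h1
        rw [M.card_lcsFil (by omega) (by omega), show n - (n - 3) = 3 by omega, ← pow_succ'] at h2
        have h3 : (E ⊔ lcsFil G (n - 2)) ⊓ lcsFil G 2 < E ⊔ lcsFil G (n - 2) :=
          lt_of_le_of_ne inf_le_left fun he => hE2' fun v hv => (he.ge (Subgroup.mem_sup_left hv)).2
        have h4' := (M.mul_card_le_of_lt h3).trans hX
        have h5' : p * p ^ 4 ≤ p ^ 4 :=
          (Nat.mul_le_mul_left p (h2.trans (Subgroup.card_le_of_le hle))).trans h4'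
        exact absurd h5' (lt_mul_of_one_lt_left (pow_pos hp.out.pos 4) hp.out.one_lt).not_ge
      refine Or.inl (big_of M hp2 h5 hab hc hcard hgn hgE hd
        (mem_normalizer_of_comm fun v hv => last_le M hp2 h5 hab hc hcard (comm_mem_symm ?_)) hwX)
      have := C1_shift M hp2 (i := n - 3) (by omega) (by omega) (hE1 hv) hw
      rwa [show n - 3 + 2 = n - 1 by omega] at this

end Abelian

end Cfsg.Agent.H91.Small
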