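import Cfsg.Agent.H91.Small.Five

/-!
The case of an essential subgroup in the centralizer of the second centre.
-/

set_option autoImplicit false
set_option linter.style.haveILetI false
set_option linter.unusedSectionVars false

namespace Cfsg.Agent.H91.Small

open Cfsg Cfsg.FusionSystem Cfsg.Agent.FusionSys Cfsg.Agent.PGroups
open Cfsg.FusionSystem (centralizerIn normalizerIn)
open scoped commutatorElement

universe u

variable {Ω : Type u} [Group Ω] {S : Subgroup Ω} [Finite S] {p n : ℕ} [hp : Fact p.Prime]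
  {F : FusionSystem S}

/-- The layers are generated by commutators with an element outside the first centralizer. -/
theorem lay_le_comm {G : Type u} [Group G] [Finite G] (M : MaxClassGrp G p n) (hp2 : p ≠ 2) {C : Subgroup G}
    {e : G} (he : e ∈ C) (he1 : e ∉ layerCent G 2) {i : ℕ} (hi : 2 ≤ i) :
    ∀ d j, j + d = n - 2 → i + 1 ≤ j → lcsFil G j ≤ ⁅C, lcsFil G i⁆ ⊔ lcsFil G (n - 2) := by
  intro d
  induction d with
  | zero =>
    intro j hj _
    rw [show j = n - 2 by omega]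
    exact le_sup_right
  | succ d ih =>
    intro j hj hij v hv
    obtain ⟨w, hw, hw'⟩ := exists_exact M (i := j - 1) (by omega) (by omega)
    have hc : ⁅e, w⁆ ∈ lcsFil G j := by
      have := comm_mem_symm (commutatorElement_mem_lcsFil (j := 1) (y := e) hw (by simp [lcsFil_one]))
      rwa [show j - 1 + 1 = j by omega] at this
    have hc' : ⁅e, w⁆ ∉ lcsFil G (j + 1) := by
      have := not_mem_layer M hp2 (i := j - 1) (by omega) (by omega) he1 hw hw'
      rwa [show j - 1 + 2 = j + 1 by omega] at this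
    obtain ⟨k, hk⟩ := M.exists_pow_layer (i := j) (by omega) (by omega) hc hc' hv
    rw [← mul_inv_cancel_left (⁅e, w⁆ ^ k) v]
    exact mul_mem (pow_mem (Subgroup.mem_sup_left
      (Subgroup.commutator_mem_commutator he (lcsFil_antitone (by omega) hw))) k) (ih (j + 1) (by omega) (by omega) hk)

namespace Elem

variable {E : Subgroup Ω} (D : Elem F p n E)
include D

/-- A map of the centralizer of the second centre preserving it preserves the last layer. -/
theorem mixA_center (h6 : 6 ≤ n) (hne : layerCent ↥S 2 ≠ layerCent ↥S (n - 2))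
    (hZE : lay S (n - 2) ≤ E) (hEC : E.subgroupOf S ≤ layerCent ↥S (n - 2)) {e : ↥S}
    (he : (e : Ω) ∈ E) (he1 : e ∉ layerCent ↥S 2) (hN : Nat.card (normalizerIn S E) ≤ p ^ 4)
    (C : Subgroup ↥S) (hCdef : C = layerCent ↥S (n - 2))
    {α : MulAut (C.map S.subtype)} (hα : α ∈ F.autGroup (C.map S.subtype))
    (hα2 : ∀ z ∈ lay S (n - 2), autMap α z ∈ lay S (n - 2)) :
    ∃ z : ↥S, z ∈ lcsFil ↥S (n - 1) ∧ z ≠ 1 ∧ autMap α (z : Ω) ∈ lay S (n - 1) := by
  have h4 := D.M.four_le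
  have hCS : (C.map S.subtype) ≤ S := Subgroup.map_subtype_le _
  have hmap := (mem_autGroup_iff hCS).1 hα
  have hmem : ∀ v : C, ((v : ↥S) : Ω) ∈ (C.map S.subtype) := fun v => Subgroup.mem_map_of_mem _ v.2
  let φ : C →* ↥S := MonoidHom.mk' (fun v => ⟨autMap α ((v : ↥S) : Ω), hmap.mem_S (hmem v)⟩)
    fun u v => Subtype.ext (hmap.map_mul (hmem u) (hmem v))
  have h2C : lcsFil ↥S 2 ≤ C := hCdef ▸ MaxClassGrp.lcsFil_two_le_layerCent _
  have hZ2C : lcsFil ↥S (n - 2) ≤ C := (lcsFil_antitone (by omega)).trans h2C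
  have heC : e ∈ C := hCdef ▸ hEC he
  have hφ2 : ∀ v (hv : v ∈ lcsFil ↥S (n - 2)), φ ⟨v, hZ2C hv⟩ ∈ lcsFil ↥S (n - 2) := fun v hv =>
    coe_mem_lay.1 (hα2 _ (coe_mem_lay.2 hv))
  -- the preimage of the second layer
  set R := ((lcsFil ↥S 2).comap φ).map C.subtype
  have hR : ∀ v (hv : v ∈ C), v ∈ R ↔ φ ⟨v, hv⟩ ∈ lcsFil ↥S 2 := fun v hv =>
    ⟨fun ⟨w, hw, hwv⟩ => by
      have : w = ⟨v, hv⟩ := Subtype.ext hwv
      exact this ▸ hw, fun h => ⟨⟨v, hv⟩, h, rfl⟩⟩
  have hR3 : lcsFil ↥S 3 ≤ R := by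
    refine (lay_le_comm D.M D.hp2 heC he1 (i := 2) le_rfl (n - 5) 3 (by omega) le_rfl).trans (sup_le ?_ ?_)
    · rw [Subgroup.commutator_le]
      intro c hc w hw
      refine ⟨⁅(⟨c, hc⟩ : C), ⟨w, h2C hw⟩⁆, ?_, rfl⟩
      rw [SetLike.mem_coe, Subgroup.mem_comap, map_commutatorElement]
      exact commutatorElement_mem_lcsFil (i := 1) (j := 1) (by simp [lcsFil_one]) (by simp [lcsFil_one])
    · exact fun v hv => (hR v (hZ2C hv)).2 (lcsFil_antitone (by omega) (hφ2 v hv))
  have hCcard : Nat.card C = p ^ (n - 1) := hCdef ▸ D.M.layerCent_card (by omega) (by omega)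
  have he2 : e ∉ lcsFil ↥S 2 := fun h => he1 (MaxClassGrp.lcsFil_two_le_layerCent _ h)
  have hφinj : Function.Injective φ := fun u v h =>
    Subtype.ext (Subtype.ext (hmap.injOn (hmem u) (hmem v) (congrArg Subtype.val h)))
  have h2R : ∀ v (hv : v ∈ lcsFil ↥S 2), φ ⟨v, h2C hv⟩ ∈ lcsFil ↥S 2 := by
    by_contra hcon
    obtain ⟨r, hr, hr2⟩ : ∃ r ∈ R, r ∉ lcsFil ↥S 2 := by
      by_contra hall
      push Not at hall
      refine hcon fun v hv => (hR v (h2C hv)).1 ?_
      have hrange : lcsFil ↥S 2 ≤ φ.range := fun v hv => by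
        obtain ⟨y, hy, hyv⟩ := (isIso_autMap hCS hα).exists_preimage
          (Subgroup.mem_map_of_mem S.subtype (h2C hv))
        obtain ⟨c, hc, rfl⟩ := hy
        exact ⟨⟨c, hc⟩, Subtype.ext hyv⟩
      have hge : Nat.card (lcsFil ↥S 2) ≤ Nat.card R := by
        rw [Subgroup.card_map_of_injective C.subtype_injective,
          ← Subgroup.card_map_of_injective (K := (lcsFil ↥S 2).comap φ) (f := φ) hφinj, Subgroup.map_comap_eq,
          inf_eq_right.2 hrange]
      exact (Subgroup.eq_of_le_of_card_ge hall hge).ge hv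
    have hrC : r ∈ C := by
      obtain ⟨w, -, rfl⟩ := hr
      exact w.2
    obtain ⟨i, hi⟩ := exists_exp D.M h2C hCcard heC he2 hrC
    have hep : e ^ p = 1 := D.exp_sub e he
    have hi0 : (i : ZMod p) ≠ 0 := fun h0 => hr2 (by
      rw [pow_congr_zmod hep (b := 0) (by rw [h0, Nat.cast_zero]), pow_zero, inv_one, one_mul] at hi
      exact hi)
    obtain ⟨x, hx⟩ : ∃ x, x ∉ C := by
      by_contra hall
      push Not at hall
      rw [show C = ⊤ from eq_top_iff.2 fun y _ => hall y, Subgroup.card_top, D.M.card] at hCcard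
      exact absurd (Nat.pow_right_injective hp.out.two_le hCcard) (by omega)
    have htop := top_layer D.M h2C hCcard heC he2 hx
    have hq2 : ⁅x, e⁆ ∈ lcsFil ↥S 2 :=
      commutatorElement_mem_lcsFil (i := 1) (j := 1) (by simp [lcsFil_one]) (by simp [lcsFil_one])
    obtain ⟨k, hk⟩ := D.M.exists_pow_layer (i := 2) le_rfl (by omega) hq2 htop hi
    haveI : (lcsFil ↥S (2 + 1)).Normal := lcsFil_normal _
    set q := QuotientGroup.mk' (lcsFil ↥S (2 + 1))
    have hcentral : ∀ y, Commute (q ⁅x, e⁆) (q y) := fun y => by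
      rw [← commutatorElement_eq_one_iff_commute, ← map_commutatorElement]
      exact (QuotientGroup.eq_one_iff _).2 (commutatorElement_mem_lcsFil (j := 1) hq2 (by simp [lcsFil_one]))
    set j := ((k : ZMod p) * (i : ZMod p)⁻¹).val
    have hxy : q (x ^ j * e ^ i * (x ^ j)⁻¹) = q r := by
      have h1 : q x * q e * (q x)⁻¹ = q ⁅x, e⁆ * q e := by
        rw [← map_inv, ← map_mul, ← map_mul, ← map_mul, commutatorElement_def]
        congr 1
        group
      have hqr : q r = q e ^ i * q ⁅x, e⁆ ^ k := by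
        have h2 := (QuotientGroup.eq (s := lcsFil ↥S (2 + 1))).2 hk
        rw [← map_pow, ← map_pow, ← map_mul]
        refine ((QuotientGroup.eq (s := lcsFil ↥S (2 + 1))).2 ?_).symm
        have h3 : (e ^ i * ⁅x, e⁆ ^ k)⁻¹ * r = (⁅x, e⁆ ^ k)⁻¹ * ((e ^ i)⁻¹ * r) := by group
        rw [h3]
        exact hk
      rw [map_mul, map_mul, map_inv, map_pow, map_pow, comm_pow h1 (hcentral x) (hcentral e) j i, hqr,
        ← ((hcentral e).pow_pow k i).eq]
      congr 1
      refine quot_pow_congr D.M (i := 2) le_rfl (by omega) hq2 ?_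
      rw [Nat.cast_mul, ZMod.natCast_zmod_val, mul_assoc, inv_mul_cancel₀ hi0, mul_one]
    have hyR : (x ^ j * e * (x ^ j)⁻¹) ∈ R := by
      refine mem_of_pow_mem (p := p) (by rw [conj_pow, hep, mul_one, mul_inv_cancel]) hi0 ?_
      rw [conj_pow, ← mul_inv_cancel_left r (x ^ j * e ^ i * (x ^ j)⁻¹)]
      exact mul_mem hr (hR3 ((QuotientGroup.eq (s := lcsFil ↥S (2 + 1))).1 hxy.symm))
    have hcj := isIso_conj F D.hES (S.pow_mem x.2 j)
    have hinf : E.subgroupOf S ⊓ lcsFil ↥S 2 = lcsFil ↥S (n - 2) :=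
      inf_card D.M D.hp2 D.hn D.ab D.cent D.card_sub
        (le_inf (fun v hv => hZE (coe_mem_lay.2 hv)) (lcsFil_antitone (by omega))) fun hh => he2 (hh he)
    have hconjR : ∀ v : ↥S, (v : Ω) ∈ E → x ^ j * v * (x ^ j)⁻¹ ∈ R := fun v hv => by
      obtain ⟨k', hk'⟩ := exists_exp D.M h2C hCcard heC he2 (hCdef ▸ hEC hv)
      have hk2 : (e ^ k')⁻¹ * v ∈ lcsFil ↥S (n - 2) :=
        hinf.le ⟨(E.subgroupOf S).mul_mem ((E.subgroupOf S).inv_mem ((E.subgroupOf S).pow_mem he _)) hv, hk'⟩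
      rw [show x ^ j * v * (x ^ j)⁻¹ = (x ^ j * e * (x ^ j)⁻¹) ^ k' * (x ^ j * ((e ^ k')⁻¹ * v) * (x ^ j)⁻¹) by
        rw [conj_pow]; group]
      exact mul_mem (pow_mem hyR _) (hR3 (lcsFil_antitone (by omega)
        ((lcsFil_normal (n - 2)).conj_mem _ hk2 _)))
    set β : Ω → Ω := autMap α ∘ conjMap ((x : Ω) ^ j)
    have hβ : IsMap F E β := (hcj.isMap.comp (P := E) (Q := C.map S.subtype) hmap fun v hv => by
      obtain ⟨w, hw, hwe⟩ := hconjR ⟨v, D.hES hv⟩ hv
      exact ⟨(w : ↥S), w.2, (congrArg Subtype.val hwe).trans (by simp [conjMap])⟩)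
    refine D.no_low hN hβ.isIso.isConj (fun y hy => ?_) fun z hz => ?_
    · obtain ⟨v, hv, rfl⟩ := hβ.mem_imgSub.1 hy
      have hw := hconjR ⟨v, D.hES hv⟩ hv
      have hwC : x ^ j * ⟨v, D.hES hv⟩ * (x ^ j)⁻¹ ∈ C := by
        obtain ⟨w, -, hwe⟩ := hw
        exact hwe ▸ w.2
      have h := coe_mem_lay.2 ((hR _ hwC).1 hw)
      simpa [φ, β, conjMap] using h
    · haveI := finite_of_le (lay_le (S := S) (n - 2))
      have h13 : lay S (n - 2) ≤ (C.map S.subtype) := Subgroup.map_mono hZ2C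
      obtain ⟨z0, hz0, rfl⟩ := ((hmap.mono h13).image_eq_of_mapsTo hα2).ge hz
      have hz1 : ((x : Ω) ^ j)⁻¹ * z0 * (x : Ω) ^ j ∈ lay S (n - 2) := by
        have := (Subgroup.mem_normalizer_iff.1 (lay_normal (S := S) (n - 2) (S.inv_mem (S.pow_mem x.2 j))) z0).1 hz0
        simpa using this
      exact hβ.mem_imgSub.2 ⟨_, hZE hz1, by simp [β, conjMap, mul_assoc]⟩
  -- all layers down to the third last are preserved
  have hlay : ∀ i, 2 ≤ i → i + 3 ≤ n → ∀ v (hv : v ∈ lcsFil ↥S i) (hvC : v ∈ C),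
      φ ⟨v, hvC⟩ ∈ lcsFil ↥S i := by
    intro i hi hin
    induction i, hi using Nat.le_induction with
    | base => exact fun v hv _ => h2R v hv
    | succ i hi ih =>
      have hle : lcsFil ↥S (i + 1) ≤ ((lcsFil ↥S (i + 1)).comap φ).map C.subtype := by
        refine (lay_le_comm D.M D.hp2 heC he1 hi (n - 2 - (i + 1)) (i + 1) (by omega) le_rfl).trans (sup_le ?_ ?_)
        · rw [Subgroup.commutator_le]
          intro c hc w hw
          have hwC : w ∈ C := h2C (lcsFil_antitone hi hw)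
          refine ⟨⁅(⟨c, hc⟩ : C), ⟨w, hwC⟩⁆, ?_, rfl⟩
          rw [SetLike.mem_coe, Subgroup.mem_comap, map_commutatorElement]
          exact comm_mem_symm (commutatorElement_mem_lcsFil (j := 1) (ih (by omega) w hw hwC)
            (by simp [lcsFil_one]))
        · exact fun v hv => ⟨⟨v, hZ2C hv⟩, lcsFil_antitone (by omega) (hφ2 v hv), rfl⟩
      intro v hv hvC
      obtain ⟨w, hw, hwv⟩ := hle hv
      have : w = ⟨v, hvC⟩ := Subtype.ext hwv
      exact this ▸ hw
  obtain ⟨c, hc, w, hw, hcw⟩ : ∃ c ∈ lcsFil ↥S 2, ∃ w ∈ lcsFil ↥S (n - 3), ¬ Commute c w := by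
    by_contra hall
    push Not at hall
    exact hne (Subgroup.eq_of_le_of_card_ge (C1_le_C2 D.M D.hp2 D.hn hall)
      (by rw [D.M.layerCent_card le_rfl h4, D.M.layerCent_card (by omega) (by omega)]))
  have hcC : c ∈ C := h2C hc
  have hwC : w ∈ C := h2C (lcsFil_antitone (by omega) hw)
  refine ⟨⁅c, w⁆, ?_, fun h => hcw (commutatorElement_eq_one_iff_commute.1 h), ?_⟩
  · have := commutatorElement_mem_lcsFil hc hw
    rwa [show 2 + (n - 3) = n - 1 by omega] at this
  · have h := commutatorElement_mem_lcsFil (hlay 2 le_rfl (by omega) c hc hcC) (hlay (n - 3) (by omega) (by omega) w hw hwC)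
    rw [← map_commutatorElement, show 2 + (n - 3) = n - 1 by omega] at h
    exact coe_mem_lay.2 h

/-- The case of `E` in the centralizer of the second centre, `n` even. -/
theorem mixA_case (h6 : 6 ≤ n) (heven : n % 2 = 0) (hne : layerCent ↥S 2 ≠ layerCent ↥S (n - 2))
    (hZ : lcsFil ↥S (n - 2) ≤ E.subgroupOf S) (hEC : E.subgroupOf S ≤ layerCent ↥S (n - 2)) {e : ↥S}
    (he : e ∈ E.subgroupOf S) (he1 : e ∉ layerCent ↥S 2) : False := by
  have h4 := D.M.four_le
  have hZE : lay S (n - 2) ≤ E := fun x hx => by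
    obtain ⟨v, hv, rfl⟩ := exists_lay hx
    exact hZ hv
  have hW : ∀ v ∈ lay S (n - 2), v ^ p = 1 := fun v hv => D.exp v (hZE hv)
  have hLc := comm_lay D.hS D.hF D.M D.hn hW
  have he2 : e ∉ lcsFil ↥S 2 := fun h => he1 (MaxClassGrp.lcsFil_two_le_layerCent _ h)
  have hinf : E.subgroupOf S ⊓ lcsFil ↥S 2 = lcsFil ↥S (n - 2) :=
    inf_card D.M D.hp2 D.hn D.ab D.cent D.card_sub (le_inf hZ (lcsFil_antitone (by omega))) fun hh => he2 (hh he)
  obtain ⟨g, hg, hg'⟩ := exists_exact D.M (i := n - 3) (by omega) (by omega)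
  rw [show n - 3 + 1 = n - 2 by omega] at hg'
  have hgE : (g : Ω) ∉ E := fun hh => hg' (hinf.le ⟨hh, lcsFil_antitone (by omega) hg⟩)
  obtain ⟨s, hs, hs'⟩ := exists_exact D.M (i := n - 4) (by omega) (by omega)
  have hge : ⁅g, e⁆ ∈ lcsFil ↥S (n - 2) := by
    rw [show n - 2 = n - 3 + 1 by omega]
    exact commutatorElement_mem_lcsFil (j := 1) hg (by simp [lcsFil_one])
  have hge' : ⁅g, e⁆ ∉ lcsFil ↥S (n - 1) := fun h => by
    refine not_mem_layer D.M D.hp2 (i := n - 3) (by omega) (by omega) he1 hg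
      (by rwa [show n - 3 + 1 = n - 2 by omega]) ?_
    rw [show n - 3 + 2 = n - 1 by omega]
    exact comm_mem_symm h
  have Fr := D.frame (K := lay S (n - 2)) hZE (lay_antitone (by omega)) D.card_two (e := e) (g := g) (s := s)
    he (fun hh => he2 (lcsFil_antitone (by omega) (coe_mem_lay.1 hh))) hg hgE
    (show ((⁅g, e⁆ : ↥S) : Ω) ∈ lay S (n - 2) from coe_mem_lay.2 hge)
    (by rw [show n - 3 = n - 4 + 1 by omega]
        exact comm_mem_symm (commutatorElement_mem_lcsFil (j := 1) hs (by simp [lcsFil_one])))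
    (fun hh => by
      have h1 : ⁅s, e⁆ ∈ E.subgroupOf S ⊓ lcsFil ↥S 2 :=
        ⟨show ((⁅s, e⁆ : ↥S) : Ω) ∈ E from E.mul_mem hh (E.inv_mem he),
          commutatorElement_mem_lcsFil (i := 1) (j := 1) (by simp [lcsFil_one]) (by simp [lcsFil_one])⟩
      rw [hinf] at h1
      refine not_mem_layer D.M D.hp2 (i := n - 4) (by omega) (by omega) he1 hs hs' ?_
      rw [show n - 4 + 2 = n - 2 by omega]
      exact comm_mem_symm h1)
    (coe_mem_lay.2 (by
      rw [show n - 2 = n - 3 + 1 by omega]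
      exact commutatorElement_mem_lcsFil (j := 1) ((lcsFil _ _).inv_mem hg) (by simp [lcsFil_one])))
    (fun v hv => (Subgroup.mem_normalizer_iff.1 (lay_normal _ s.2) v).1 hv) hLc
  set a : Ω := ⁅(g : Ω), (e : Ω)⁆
  have ha : a ∈ lay S (n - 2) := show ((⁅g, e⁆ : ↥S) : Ω) ∈ _ from coe_mem_lay.2 hge
  have ha' : a ∉ lay S (n - 1) := fun h => hge' (coe_mem_lay.1 (show ((⁅g, e⁆ : ↥S) : Ω) ∈ _ from h))
  have haL : a ∈ lay S (n - 3) := lay_antitone (by omega) ha
  -- the normalizer centralizes the second centre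
  have hN : Nat.card (normalizerIn S E) ≤ p ^ 4 := by
    have h := Fr.card_le D.hS D.hF fun w hw => by
      have hwC : (⟨w, hw.1⟩ : ↥S) ∈ layerCent ↥S (n - 2) := by
        by_contra hwC
        refine top_layer D.M (MaxClassGrp.lcsFil_two_le_layerCent _) (D.M.layerCent_card (by omega) (by omega))
          (hEC he) he2 hwC ?_
        have h1 : ⁅(⟨w, hw.1⟩ : ↥S), e⁆ ∈ E.subgroupOf S ⊓ lcsFil ↥S 2 :=
          ⟨show w * e * w⁻¹ * (e : Ω)⁻¹ ∈ E from E.mul_mem (conj_mem_of_mem_normalizerIn hw he) (E.inv_mem he),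
            commutatorElement_mem_lcsFil (i := 1) (j := 1) (by simp [lcsFil_one]) (by simp [lcsFil_one])⟩
        rw [hinf] at h1
        exact lcsFil_antitone (by omega) h1
      have hc : w * a = a * w := congrArg Subtype.val ((mem_C2_iff D.M h4).1 hwC _ hge).eq
      rw [hc, mul_inv_cancel_right]
    rwa [D.card, show p * p ^ 3 = p ^ 4 by ring] at h
  obtain ⟨l, hl⟩ := exists_unit (p := p)
  obtain ⟨m, hm, hma, hmK, hmg⟩ := Fr.exists_aut_L D.hS D.hF l
  have hLS := lay_le (S := S) (n - 3)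
  have h23 : lay S (n - 2) ≤ lay S (n - 3) := lay_antitone (by omega)
  have hmap := (mem_autGroup_iff hLS).1 hm
  have hsh : ∀ v ∈ lay S (n - 2), v⁻¹ * autMap m v ∈ Subgroup.zpowers a :=
    fun v hv => shift_fix D hm hLS h23 hLc haL hma hmK hv
  have hm2 : ∀ v ∈ lay S (n - 2), autMap m v ∈ lay S (n - 2) := fun v hv => by
    rw [← mul_inv_cancel_left v (autMap m v)]
    exact mul_mem hv (Subgroup.zpowers_le.2 ha (hsh v hv))
  -- extend to the centralizer of the second centre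
  set CΩ := (layerCent ↥S (n - 2)).map S.subtype
  have hCS : CΩ ≤ S := Subgroup.map_subtype_le _
  haveI := finite_of_le hCS
  haveI := finite_of_le (lay_le (S := S) (n - 2))
  haveI := finite_of_le (normalizerIn_le : normalizerIn S (lay S (n - 2)) ≤ S)
  have hi : IsIso F (lay S (n - 2)) (lay S (n - 2)) (autMap m) :=
    ⟨hmap.mono h23, (hmap.mono h23).image_eq_of_mapsTo hm2⟩
  have hcomm : ∀ {w y : Ω}, w ∈ CΩ → y ∈ lay S (n - 2) → y * w = w * y := by
    intro w y hw hy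
    obtain ⟨v, hv, rfl⟩ := hw
    obtain ⟨u, hu, rfl⟩ := exists_lay hy
    exact (congrArg Subtype.val ((mem_C2_iff D.M h4).1 hv _ hu).eq).symm
  have hfn : F.IsFullyNormalized (lay S (n - 2)) :=
    ⟨lay_le _, fun Q _ => Subgroup.card_le_of_le fun y hy => ⟨hy.1, lay_normal _ hy.1⟩⟩
  obtain ⟨G, hG, hGe⟩ := receptive_extend (receptive_of_isFullyNormalized D.hS D.hF hfn) hi (N := CΩ)
    fun w hw => hi.isMap.inExt_of_centralizes
      (FusionSys.mem_centralizerIn.2 ⟨hCS hw, fun y hy => hcomm hw hy⟩)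
  have hGC : IsMap F CΩ G := hG.mono le_sup_left
  have h2C : lay S (n - 2) ≤ CΩ := Subgroup.map_mono
    ((lcsFil_antitone (by omega)).trans (MaxClassGrp.lcsFil_two_le_layerCent _))
  have hmaps : ∀ w ∈ CΩ, G w ∈ CΩ := fun w hw => by
    refine ⟨⟨G w, hGC.mem_S hw⟩, (mem_C2_iff D.M h4).2 fun u hu => ?_, rfl⟩
    obtain ⟨y, hy, hyu⟩ := hi.exists_preimage (coe_mem_lay.2 hu)
    refine Subtype.ext ?_
    show G w * (u : Ω) = u * G w
    rw [← hyu, ← hGe y hy, ← hGC.map_mul hw (h2C hy), ← hGC.map_mul (h2C hy) hw, hcomm hw hy]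
  obtain ⟨α, hα, hαe⟩ := (IsIso.mk hGC (hGC.image_eq_of_mapsTo hmaps)).exists_aut
  have hαm : ∀ v ∈ lay S (n - 2), autMap α v = autMap m v := fun v hv => (hαe v (h2C hv)).trans (hGe v hv)
  obtain ⟨z, hz, hz1, hzm⟩ := D.mixA_center h6 hne hZE hEC he he1 hN _ rfl hα fun v hv => by
    rw [hαm v hv]; exact hm2 v hv
  have hzL : (z : Ω) ∈ lay S (n - 1) := coe_mem_lay.2 hz
  have hz2 : (z : Ω) ∈ lay S (n - 2) := lay_antitone (by omega) hzL
  rw [hαm _ hz2] at hzm
  have hz1' : (z : Ω) ≠ 1 := fun h => hz1 (Subtype.ext h)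
  -- the torus fixes the centre
  have hl1 : (l : ZMod p) - 1 ≠ 0 := fun h => by
    have h1 : l = 1 := Units.ext (by rw [Units.val_one]; exact sub_eq_zero.1 h)
    rw [h1, orderOf_one] at hl
    have := D.five
    omega
  have hap : a ^ p = 1 := D.exp _ (hZE ha)
  obtain ⟨i, c, hc, hzc, hmc⟩ := hmK _ hz2
  have hmz : autMap m (z : Ω) = z := by
    have h1 : (a ^ i)⁻¹ * (a ^ (l : ZMod p).val) ^ i ∈ lay S (n - 1) := by
      have := mul_mem (inv_mem hzL) hzm
      rw [hzc, hmap.map_mul (h23 hc) (pow_mem haL i), hmap.map_pow haL, hma, hmc, mul_inv_rev, mul_assoc,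
        inv_mul_cancel_left] at this
      exact this
    by_cases hi0 : (i : ZMod p) = 0
    · have : a ^ i = 1 := by rw [pow_congr_zmod hap (b := 0) (by rw [hi0, Nat.cast_zero]), pow_zero]
      rw [this, mul_one] at hzc
      rw [hzc, hmc]
    exfalso
    refine ha' (mem_of_pow_mem (p := p) hap (k := (((l : ZMod p) - 1) * i).val)
      (by rw [ZMod.natCast_zmod_val]; exact mul_ne_zero hl1 hi0) ?_)
    have e : a ^ ((l : ZMod p).val * i) = a ^ i * a ^ (((l : ZMod p) - 1) * i).val := by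
      rw [← pow_add]
      refine pow_congr_zmod hap ?_
      simp only [Nat.cast_mul, Nat.cast_add, ZMod.natCast_zmod_val]
      ring
    rw [← pow_mul, e, inv_mul_cancel_left] at h1
    exact h1
  have hm1 : ∀ v ∈ lay S (n - 1), autMap m v ∈ lay S (n - 1) := fun v hv => by
    obtain ⟨k, rfl⟩ := D.last_gen hzL hz1' hv
    rw [hmap.map_pow (h23 hz2), hmz]
    exact hv
  obtain ⟨t, ht⟩ := flag_extend D.hS D.hF D.M D.hn hW hm hm1 hm2
  have hwt := fun {i : ℕ} (hi : n - 3 ≤ i) (hin : i < n) {v : Ω} =>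
    wt_of_fact D.hS D.hF D.M D.hn ht hi hin (v := v)
  have w1 : Wt (p := p) t (n - 1) 1 := by
    refine hwt (v := (z : Ω)) (by omega) (by omega) hzL (fun hh => hz1 ?_) _
      (by rw [ZMod.val_one, pow_one, hmz, inv_mul_cancel]; exact one_mem _)
    exact eq_one_of_mem D.M (by omega) (coe_mem_lay.1 hh)
  have w2 : Wt (p := p) t (n - 2) (l : ZMod p) := by
    refine hwt (v := a) (by omega) (by omega) ha (by rwa [show n - 2 + 1 = n - 1 by omega]) _
      (by rw [hma, inv_mul_cancel]; exact one_mem _)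
  have w3 : Wt (p := p) t (n - 3) ((l : ZMod p) * l) := by
    refine hwt (v := (g : Ω)) le_rfl (by omega) (coe_mem_lay.2 hg)
      (by rw [show n - 3 + 1 = n - 2 by omega]; exact fun hh => hg' (coe_mem_lay.1 hh)) _ ?_
    rw [show n - 3 + 1 = n - 2 by omega]
    exact hmg
  obtain ⟨A, B, hv, hu, hw⟩ := weight_six D.M D.hp2 t h6 hne w1 w2 w3
  have hlu := l.ne_zero
  have hB : B * (l : ZMod p) = 1 := by
    refine mul_right_cancel₀ hlu ?_
    rw [one_mul, mul_assoc]; exact hv.symm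
  have hAB : A = B := mul_right_cancel₀ hlu (hu.symm.trans hB.symm)
  subst hAB
  have hkey : (l : ZMod p) ^ (n - 1) = 1 := by
    rw [show n - 1 = n - 5 + 4 by omega, pow_add]
    calc (l : ZMod p) ^ (n - 5) * (l : ZMod p) ^ 4
        = (l : ZMod p) ^ (n - 5) * ((l : ZMod p) * l) * ((l : ZMod p) * l) := by ring
      _ = (l : ZMod p) ^ (n - 5) * (A * A * A ^ (n - 5)) * ((l : ZMod p) * l) := by rw [← hw]
      _ = (A * (l : ZMod p)) ^ (n - 5) * (A * l) * (A * l) := by rw [mul_pow]; ring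
      _ = 1 := by rw [hB]; simp
  have hdvd : p - 1 ∣ n - 1 := hl ▸ orderOf_dvd_of_pow_eq_one
    (Units.ext (by rw [Units.val_pow_eq_pow_val, hkey, Units.val_one]))
  obtain ⟨q, hq⟩ := hdvd
  obtain ⟨m', hm'⟩ : Even (p - 1) := hp.out.even_sub_one D.hp2
  rw [hm', ← two_mul, mul_assoc] at hq
  omega

end Elem

end Cfsg.Agent.H91.Small
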