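import Cfsg.Agent.H91.Small.MixA

/-!
The case of an essential subgroup not containing the second centre.
-/

set_option autoImplicit false
set_option linter.style.haveILetI false
set_option linter.unusedSectionVars false

namespace Cfsg.Agent.H91.Small

open Cfsg Cfsg.FusionSystem Cfsg.Agent.FusionSys Cfsg.Agent.PGroups
open Cfsg.FusionSystem (centralizerIn normalizerIn)
open scoped commutatorElement

universe u

variable {Ω : Type u} [Group Ω] {S : Subgroup Ω} [Finite S] {p n : ℕ} [hp : Fact p.Prime]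
  {F : FusionSystem S}

namespace Elem

variable {E : Subgroup Ω} (D : Elem F p n E)
include D

/-- An automorphism of the third last layer, fixing the last one setwise, moving `E ⊓ L₂` onto the second
centre: impossible. -/
theorem mixB_move (h6 : 6 ≤ n) (hne : layerCent ↥S 2 ≠ layerCent ↥S (n - 2))
    (hEC : E.subgroupOf S ≤ layerCent ↥S 2) (hW : ∀ v ∈ lay S (n - 2), v ^ p = 1)
    (hN : Nat.card (normalizerIn S E) ≤ p ^ 4) {K : Subgroup Ω} (hKE : K ≤ E)
    (hKL : K ≤ lay S (n - 3)) (hcK : Nat.card K = p ^ 2) {β : MulAut (lay S (n - 3))}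
    (hβ : β ∈ F.autGroup (lay S (n - 3))) (hβ1 : ∀ v ∈ lay S (n - 1), autMap β v ∈ lay S (n - 1))
    (hβK : ∀ v ∈ K, autMap β v ∈ lay S (n - 2)) : False := by
  have h4 := D.M.four_le
  have hLS := lay_le (S := S) (n - 3)
  have hmap := (mem_autGroup_iff hLS).1 hβ
  have h13 : lay S (n - 1) ≤ lay S (n - 3) := lay_antitone (by omega)
  have h12 : lay S (n - 1) ≤ lay S (n - 2) := lay_antitone (by omega)
  have h23 : lay S (n - 2) ≤ lay S (n - 3) := lay_antitone (by omega)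
  haveI := finite_of_le hLS
  haveI := finite_of_le (normalizerIn_le : normalizerIn S (lay S (n - 3)) ≤ S)
  have hfn : F.IsFullyNormalized (lay S (n - 3)) :=
    ⟨hLS, fun R _ => Subgroup.card_le_of_le fun x hx => ⟨hx.1, lay_normal _ hx.1⟩⟩
  have hC1 : ∀ c ∈ layerCent ↥S 2, ∀ y ∈ lay S (n - 3), y⁻¹ * ((c : Ω) * y * (c : Ω)⁻¹) ∈ lay S (n - 1) := by
    intro c hc y hy
    obtain ⟨v, hv, rfl⟩ := exists_lay hy
    have h := comm_mem_symm (C1_shift D.M D.hp2 (i := n - 3) (by omega) (by omega) hc (inv_mem hv))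
    rw [show n - 3 + 2 = n - 1 by omega] at h
    have h' := coe_mem_lay.2 h
    simpa [commutatorElement_def, mul_assoc] using h'
  obtain ⟨G, hG, hGe⟩ := receptive_extend (receptive_of_isFullyNormalized D.hS D.hF hfn)
    (isIso_autMap hLS hβ) (N := (layerCent ↥S 2).map S.subtype) fun w hw => by
    obtain ⟨c, hc, rfl⟩ := hw
    have hn' := lay_normal (S := S) (n - 3) c.2
    have e : ∀ y ∈ lay S (n - 3), autMap (β * conjAut hn' * β⁻¹) y
        = autMap β ((c : Ω) * autMap β⁻¹ y * (c : Ω)⁻¹) := fun y hy => by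
      rw [autMap_mul _ _ hy, autMap_mul _ _ (autMap_mem _ hy), autMap_conjAut hn' (autMap_mem _ hy)]
      rfl
    have hshift : ∀ y ∈ lay S (n - 3), y⁻¹ * autMap (β * conjAut hn' * β⁻¹) y ∈ lay S (n - 1) := by
      intro y hy
      have hw := autMap_mem β⁻¹ hy
      have hcc : (c : Ω) * autMap β⁻¹ y * (c : Ω)⁻¹ ∈ lay S (n - 3) :=
        (Subgroup.mem_normalizer_iff.1 hn' _).1 hw
      have := hβ1 _ (hC1 c hc _ hw)
      rw [hmap.map_mul (inv_mem hw) hcc, hmap.map_inv hw, autMap_inv_apply β hy] at this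
      rw [e y hy]
      exact this
    refine inExt_autMap c.2 hn' (stab_induced D.hS D.hF D.M D.hn hW
      (mul_mem (mul_mem hβ (conjAut_mem_autGroup F hLS ⟨c.2, hn'⟩)) (inv_mem hβ)) (fun a ha => ?_)
      (fun b hb => hshift b (h23 hb)) fun x hx => h12 (hshift x hx))
    refine (e a (h13 ha)).trans ?_
    rw [lay_fix D.hS D.hF D.M D.hn hW c.2 (autMap_inv_mem hLS hβ h13 hβ1 ha),
      autMap_inv_apply β (h13 ha)]
  set N := (layerCent ↥S 2).map S.subtype ⊔ lay S (n - 3) with hNdef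
  have hEN : E ≤ N := fun v hv =>
    Subgroup.mem_sup_left ⟨⟨v, D.hES hv⟩, hEC (show (⟨v, D.hES hv⟩ : ↥S) ∈ E.subgroupOf S from hv), rfl⟩
  have hGE := hG.mono hEN
  have hKim : lay S (n - 2) ≤ imgSub G K := by
    have hGK := hG.mono (hKE.trans hEN)
    have hle : imgSub G K ≤ lay S (n - 2) := fun y hy => by
      obtain ⟨v, hv, rfl⟩ := hGK.mem_imgSub.1 hy
      rw [hGe v (hKL hv)]
      exact hβK v hv
    haveI := finite_of_le (lay_le (S := S) (n - 2))
    refine (Subgroup.eq_of_le_of_card_ge hle ?_).ge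
    rw [D.card_two, ← hGK.isIso.card_eq, hcK]
  have hZim : lay S (n - 2) ≤ imgSub G E := fun y hy => by
    obtain ⟨v, hv, rfl⟩ := (hG.mono (hKE.trans hEN)).mem_imgSub.1 (hKim hy)
    exact hGE.mem_imgSub.2 ⟨v, hKE hv, rfl⟩
  refine D.no_low hN hGE.isIso.isConj (fun y hy => ?_) hZim
  obtain ⟨v, hv, rfl⟩ := hGE.mem_imgSub.1 hy
  have hvS : G v ∈ S := hGE.mem_S hv
  refine (show ((⟨G v, hvS⟩ : ↥S) : Ω) ∈ lay S 2 from coe_mem_lay.2 (inf_eq_two D.M hne ?_ ?_))
  · by_contra hc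
    obtain ⟨w, hw, hw'⟩ := exists_exact D.M (i := n - 3) (by omega) (by omega)
    refine not_mem_layer D.M D.hp2 (i := n - 3) (by omega) (by omega) hc hw hw' ?_
    rw [show n - 3 + 2 = n - 1 by omega]
    obtain ⟨y, hy, hyw⟩ := (isIso_autMap hLS hβ).exists_preimage (coe_mem_lay.2 hw)
    have hvC := hEC (show (⟨v, D.hES hv⟩ : ↥S) ∈ E.subgroupOf S from hv)
    have hyN : y ∈ N := Subgroup.mem_sup_right hy
    have hd := hC1 _ hvC y hy
    have hdy : v * y * v⁻¹ * y⁻¹ ∈ lay S (n - 1) := by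
      obtain ⟨u, hu, rfl⟩ := exists_lay hy
      have h := C1_shift D.M D.hp2 (i := n - 3) (by omega) (by omega) hvC hu
      rw [show n - 3 + 2 = n - 1 by omega] at h
      exact coe_mem_lay.2 h
    have h := hβ1 _ hdy
    rw [← hGe _ (h13 hdy), hG.map_mul (N.mul_mem (N.mul_mem (hEN hv) hyN) (N.inv_mem (hEN hv))) (N.inv_mem hyN),
      hG.map_conj (hEN hv) hyN, hG.map_inv hyN, hGe y hy, hyw] at h
    exact coe_mem_lay.1 h
  · refine (mem_C2_iff D.M h4).2 fun u hu => ?_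
    obtain ⟨x, hx, hxu⟩ := hGE.mem_imgSub.1 (hZim (coe_mem_lay.2 hu))
    refine Subtype.ext ?_
    show G v * (u : Ω) = u * G v
    rw [← hxu, ← hGE.map_mul hv hx, ← hGE.map_mul hx hv, D.comm v hv x hx]

/-- The case of `E` in the centralizer of the second layer, not containing the second centre. -/
theorem mixB_case (h6 : 6 ≤ n) (hne : layerCent ↥S 2 ≠ layerCent ↥S (n - 2))
    (hEC : E.subgroupOf S ≤ layerCent ↥S 2) (hnZ : ¬ lcsFil ↥S (n - 2) ≤ E.subgroupOf S)
    (hA : E.subgroupOf S ⊓ lcsFil ↥S 2 ≤ lcsFil ↥S (n - 3))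
    (hc2 : Nat.card ↥(E.subgroupOf S ⊓ lcsFil ↥S 2) = p ^ 2)
    {s : ↥S} (hs : s ∈ lcsFil ↥S (n - 4)) {v₀ : ↥S} (hv₀ : v₀ ∈ E.subgroupOf S)
    (hsv : ⁅s, v₀⁆ ∉ E.subgroupOf S) : False := by
  have h4 := D.M.four_le
  set K₀ := E.subgroupOf S ⊓ lcsFil ↥S 2 with hK₀
  set K := K₀.map S.subtype with hKdef
  have hKE : K ≤ E := by
    rintro _ ⟨v, hv, rfl⟩
    exact hv.1
  have hKL : K ≤ lay S (n - 3) := Subgroup.map_mono hA
  have hcK : Nat.card K = p ^ 2 := by rw [hKdef, Subgroup.card_map_of_injective S.subtype_injective, hc2]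
  have hmemK : ∀ v : ↥S, (v : Ω) ∈ K ↔ v ∈ K₀ := fun v => Subgroup.mem_map_iff_mem S.subtype_injective
  have hlast : lcsFil ↥S (n - 1) ≤ K₀ :=
    le_inf (last_le D.M D.hp2 D.hn D.ab D.cent D.card_sub) (lcsFil_antitone (by omega))
  have hlastK : lay S (n - 1) ≤ K := Subgroup.map_mono hlast
  have hEZ : ∀ w, w ∈ E.subgroupOf S → w ∈ lcsFil ↥S (n - 2) → w ∈ lcsFil ↥S (n - 1) := by
    intro w hw hw2
    by_contra hw'
    refine hnZ fun u hu => ?_
    obtain ⟨k, hk⟩ := D.M.exists_pow_layer (i := n - 2) (by omega) (by omega) hw2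
      (by rwa [show n - 2 + 1 = n - 1 by omega]) hu
    rw [show n - 2 + 1 = n - 1 by omega] at hk
    rw [← mul_inv_cancel_left (w ^ k) u]
    exact mul_mem (pow_mem hw k) ((hlast hk).1)
  obtain ⟨f, hfK, hf'⟩ : ∃ f ∈ K₀, f ∉ lcsFil ↥S (n - 1) := by
    by_contra hall
    push Not at hall
    have := Subgroup.card_le_of_le (show K₀ ≤ lcsFil ↥S (n - 1) from hall)
    rw [hc2, D.M.card_lcsFil (by omega) (by omega), show n - (n - 1) = 1 by omega] at this
    exact absurd this (Nat.pow_lt_pow_right hp.out.one_lt (by omega)).not_ge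
  have hf2 : f ∉ lcsFil ↥S (n - 2) := fun h => hf' (hEZ f hfK.1 h)
  obtain ⟨x, hx, hxC⟩ : ∃ x ∈ layerCent ↥S (n - 2), x ∉ layerCent ↥S 2 := by
    by_contra hall
    push Not at hall
    exact hne (Subgroup.eq_of_le_of_card_ge hall
      (by rw [D.M.layerCent_card le_rfl h4, D.M.layerCent_card (by omega) (by omega)])).symm
  set g := ⁅x, f⁆ with hgdef
  have hg : g ∈ lcsFil ↥S (n - 2) := by
    have h := comm_mem_symm (commutatorElement_mem_lcsFil (j := 1) (y := x) (hA hfK) (by simp [lcsFil_one]))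
    rwa [show n - 3 + 1 = n - 2 by omega] at h
  have hg' : g ∉ lcsFil ↥S (n - 1) := by
    have h := not_mem_layer D.M D.hp2 (i := n - 3) (by omega) (by omega) hxC (hA hfK)
      (by rwa [show n - 3 + 1 = n - 2 by omega])
    rwa [show n - 3 + 2 = n - 1 by omega] at h
  have hgE : (g : Ω) ∉ E := fun h => hg' (hEZ g h hg)
  have hxf : x * f * x⁻¹ ∈ lcsFil ↥S (n - 3) := (lcsFil_normal _).conj_mem f (hA hfK) x
  have hfp : f ^ p = 1 := D.exp_sub f hfK.1
  have hgp : g ^ p = 1 := by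
    rw [hgdef, commutatorElement_def,
      (comm_eq_one D.M (by omega) hxf (inv_mem (hA hfK))).mul_pow, conj_pow, inv_pow, hfp, mul_one,
      inv_one, mul_one, mul_inv_cancel]
  have hW : ∀ v ∈ lay S (n - 2), v ^ p = 1 := by
    intro v hv
    obtain ⟨u, hu, rfl⟩ := exists_lay hv
    obtain ⟨k, hk⟩ := D.M.exists_pow_layer (i := n - 2) (by omega) (by omega) hg
      (by rwa [show n - 2 + 1 = n - 1 by omega]) hu
    rw [show n - 2 + 1 = n - 1 by omega] at hk
    have : u ^ p = 1 := by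
      rw [← mul_inv_cancel_left (g ^ k) u, ((central_last D.M hk (g ^ k)).symm).mul_pow, ← pow_mul,
        mul_comm k, pow_mul, hgp, one_pow, one_mul, D.exp_sub _ (hlast hk).1]
    rw [← SubmonoidClass.coe_pow, this]
    rfl
  have hLc := comm_lay D.hS D.hF D.M D.hn hW
  have hE2 : ¬ E.subgroupOf S ≤ lcsFil ↥S 2 := fun h => by
    have : K₀ = E.subgroupOf S := inf_eq_left.2 h
    rw [this, D.card_sub] at hc2
    exact absurd (Nat.pow_right_injective hp.out.two_le hc2) (by omega)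
  obtain ⟨e, he, he2⟩ := SetLike.not_le_iff_exists.1 hE2
  have heK : (e : Ω) ∉ K := fun h => he2 ((hmemK e).1 h).2
  have hge : ⁅g, e⁆ ∈ lcsFil ↥S (n - 1) := by
    rw [show n - 1 = n - 2 + 1 by omega]
    exact commutatorElement_mem_lcsFil (j := 1) hg (by simp [lcsFil_one])
  have hsK : ∀ v ∈ K, (s : Ω) * v * (s : Ω)⁻¹ ∈ K := by
    rintro _ ⟨v, hv, rfl⟩
    refine ⟨s * v * s⁻¹, ?_, by simp⟩
    rw [show s * v * s⁻¹ = ⁅s, v⁆ * v by rw [commutatorElement_def]; group]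
    exact mul_mem (hlast (lcsFil_antitone (by omega) (commutatorElement_mem_lcsFil hs (hA hv)))) hv
  have hpc : p ^ 3 = p * Nat.card K := by rw [hcK]; ring
  have hseE : ((s * e * s⁻¹ : ↥S) : Ω) ∉ E := fun h => by
    refine hsv ?_
    obtain ⟨i, hi⟩ := gen_prime D.hS D.hES hKE (D.card.trans hpc) he heK hv₀
    show ((⁅s, v₀⁆ : ↥S) : Ω) ∈ E
    have h2 : (s : Ω) * v₀ * (s : Ω)⁻¹ ∈ E := by
      rw [show (s : Ω) * v₀ * (s : Ω)⁻¹ =
          ((s * e * s⁻¹ : ↥S) : Ω) ^ i * ((s : Ω) * (((e : Ω) ^ i)⁻¹ * v₀) * (s : Ω)⁻¹) by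
        simp only [Subgroup.coe_mul, Subgroup.coe_inv, conj_pow]
        group]
      exact E.mul_mem (E.pow_mem h i) (hKE (hsK _ hi))
    exact E.mul_mem h2 (E.inv_mem hv₀)
  have Fr := D.frame (K := K) hKE hKL hcK (e := e) (g := g) (s := s) he heK
    (lcsFil_antitone (by omega) hg) hgE
    (hlastK (show ((⁅g, e⁆ : ↥S) : Ω) ∈ lay S (n - 1) from coe_mem_lay.2 hge))
    (by rw [show n - 3 = n - 4 + 1 by omega]
        exact comm_mem_symm (commutatorElement_mem_lcsFil (j := 1) hs (by simp [lcsFil_one])))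
    hseE
    (by rw [hmemK]
        exact hlast (lcsFil_antitone (by omega) (commutatorElement_mem_lcsFil (inv_mem hg) hs)))
    hsK hLc
  set a : Ω := ⁅(g : Ω), (e : Ω)⁆
  have ha : a ∈ lay S (n - 1) := show ((⁅g, e⁆ : ↥S) : Ω) ∈ _ from coe_mem_lay.2 hge
  have ha1 : a ≠ 1 := Fr.comm_ne
  have hN : Nat.card (normalizerIn S E) ≤ p ^ 4 := by
    have h := Fr.card_le D.hS D.hF fun w hw => lay_fix D.hS D.hF D.M D.hn hW hw.1 ha
    rwa [D.card, show p * p ^ 3 = p ^ 4 by ring] at h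
  have h13 : lay S (n - 1) ≤ lay S (n - 3) := lay_antitone (by omega)
  have h23 : lay S (n - 2) ≤ lay S (n - 3) := lay_antitone (by omega)
  have hLS := lay_le (S := S) (n - 3)
  have haL := h13 ha
  obtain ⟨l, hl⟩ := exists_unit (p := p)
  obtain ⟨m, hm, hma, hmK, hmg⟩ := Fr.exists_aut_L D.hS D.hF l
  have hmap := (mem_autGroup_iff hLS).1 hm
  set k := ((l : ZMod p) * l).val
  have hgL : (g : Ω) ∈ lay S (n - 3) := h23 (coe_mem_lay.2 hg)
  have hfL : (f : Ω) ∈ lay S (n - 3) := coe_mem_lay.2 (hA hfK)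
  have hm1 : ∀ v ∈ lay S (n - 1), autMap m v ∈ lay S (n - 1) := fun v hv => by
    obtain ⟨i, rfl⟩ := D.last_gen ha ha1 hv
    rw [hmap.map_pow haL, hma]
    exact pow_mem (pow_mem ha _) _
  obtain ⟨κ, hκ, hκe⟩ : ∃ κ ∈ K, autMap m (g : Ω) = (g : Ω) ^ k * κ := ⟨_, hmg, (mul_inv_cancel_left _ _).symm⟩
  have hκ1 : κ ∈ lay S (n - 1) := by
    by_contra hκ'
    obtain ⟨i, hi⟩ := gen_prime D.hS (hKE.trans D.hES) hlastK (by
      rw [hcK, card_lay, D.M.card_lcsFil (by omega) (by omega), show n - (n - 1) = 1 by omega]; ring)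
      (show (f : Ω) ∈ K from (hmemK f).2 hfK) (fun h => hf' (coe_mem_lay.1 h)) hκ
    have hi0 : (i : ZMod p) ≠ 0 := fun h0 => hκ' (by
      have hf1 : (f : Ω) ^ i = 1 := by
        rw [← SubmonoidClass.coe_pow, pow_congr_zmod hfp (b := 0) (by rw [h0, Nat.cast_zero]), pow_zero]
        rfl
      rwa [hf1, inv_one, one_mul] at hi)
    set j := ((k : ZMod p) * (i : ZMod p)⁻¹).val
    have hgx : Commute g x := ((mem_C2_iff D.M h4).1 hx g hg).symm
    have hgf : Commute g f := comm_eq_one D.M (by omega) hg (hA hfK)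
    have hconj : x ^ j * f ^ i * (x ^ j)⁻¹ = g ^ k * f ^ i := by
      rw [comm_pow (show x * f * x⁻¹ = g * f by rw [hgdef, commutatorElement_def, inv_mul_cancel_right]) hgx hgf j i]
      congr 1
      refine pow_congr_zmod hgp ?_
      rw [Nat.cast_mul, ZMod.natCast_zmod_val, mul_assoc, inv_mul_cancel₀ hi0, mul_one]
    have hn' := lay_normal (S := S) (n - 3) (S.pow_mem x.2 j)
    set β := m⁻¹ * conjAut hn'
    have hβ : β ∈ F.autGroup (lay S (n - 3)) :=
      mul_mem (inv_mem hm) (conjAut_mem_autGroup F hLS ⟨S.pow_mem x.2 j, hn'⟩)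
    have hβa : ∀ y ∈ lay S (n - 3), autMap β y = autMap m⁻¹ ((x : Ω) ^ j * y * ((x : Ω) ^ j)⁻¹) := fun y hy => by
      rw [autMap_mul _ _ hy, autMap_conjAut hn' hy]
      rfl
    have hβ1 : ∀ v ∈ lay S (n - 1), autMap β v ∈ lay S (n - 1) := fun v hv => by
      rw [hβa v (h13 hv), lay_fix D.hS D.hF D.M D.hn hW (S.pow_mem x.2 j) hv]
      exact autMap_inv_mem hLS hm h13 hm1 hv
    have hmapb := (mem_autGroup_iff hLS).1 hβ
    have hmi := (mem_autGroup_iff hLS).1 (inv_mem hm)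
    have hβf : autMap β (f : Ω) ∈ lay S (n - 2) := by
      refine mem_of_pow_mem (p := p) (by
        rw [← hmapb.map_pow hfL, ← SubmonoidClass.coe_pow, hfp]
        exact hmapb.map_one) hi0 ?_
      rw [← hmapb.map_pow hfL, hβa _ (pow_mem hfL i)]
      have e2 : (x : Ω) ^ j * (f : Ω) ^ i * ((x : Ω) ^ j)⁻¹ = autMap m (g : Ω) * (((f : Ω) ^ i)⁻¹ * κ)⁻¹ := by
        have h := congrArg Subtype.val hconj
        simp only [Subgroup.coe_mul, Subgroup.coe_inv, SubmonoidClass.coe_pow] at h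
        rw [h, hκe]
        group
      have hzi : (((f : Ω) ^ i)⁻¹ * κ)⁻¹ ∈ lay S (n - 1) := inv_mem hi
      rw [e2, hmi.map_mul (autMap_mem m hgL) (h13 hzi), ← autMap_mul m⁻¹ m hgL, inv_mul_cancel,
        Cfsg.Agent.FusionSys.autMap_one hgL]
      exact mul_mem (coe_mem_lay.2 hg) (lay_antitone (by omega) (autMap_inv_mem hLS hm h13 hm1 hzi))
    refine D.mixB_move h6 hne hEC hW hN hKE hKL hcK hβ hβ1 fun v hv => ?_
    obtain ⟨q, hq⟩ := gen_prime D.hS (hKE.trans D.hES) hlastK (by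
      rw [hcK, card_lay, D.M.card_lcsFil (by omega) (by omega), show n - (n - 1) = 1 by omega]; ring)
      (show (f : Ω) ∈ K from (hmemK f).2 hfK) (fun h => hf' (coe_mem_lay.1 h)) hv
    rw [← mul_inv_cancel_left ((f : Ω) ^ q) v, hmapb.map_mul (pow_mem hfL q) (h13 hq), hmapb.map_pow hfL]
    exact mul_mem (pow_mem hβf q) (lay_antitone (by omega) (hβ1 _ hq))
  have hm2 : ∀ v ∈ lay S (n - 2), autMap m v ∈ lay S (n - 2) := fun v hv => by
    obtain ⟨u, hu, rfl⟩ := exists_lay hv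
    obtain ⟨q, hq⟩ := D.M.exists_pow_layer (i := n - 2) (by omega) (by omega) hg
      (by rwa [show n - 2 + 1 = n - 1 by omega]) hu
    rw [show n - 2 + 1 = n - 1 by omega] at hq
    rw [← mul_inv_cancel_left (g ^ q) u, Subgroup.coe_mul, SubmonoidClass.coe_pow,
      hmap.map_mul (pow_mem hgL q) (h13 (coe_mem_lay.2 hq)), hmap.map_pow hgL, hκe]
    exact mul_mem (pow_mem (mul_mem (pow_mem (coe_mem_lay.2 hg) k) (lay_antitone (by omega) hκ1)) q)
      (lay_antitone (by omega) (hm1 _ (coe_mem_lay.2 hq)))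
  obtain ⟨t, ht⟩ := flag_extend D.hS D.hF D.M D.hn hW hm hm1 hm2
  have hwt := fun {i : ℕ} (hi : n - 3 ≤ i) (hin : i < n) {v : Ω} =>
    wt_of_fact D.hS D.hF D.M D.hn ht hi hin (v := v)
  have w1 : Wt (p := p) t (n - 1) (l : ZMod p) := by
    refine hwt (v := a) (by omega) (by omega) ha (fun hh => ha1 ?_) _
      (by rw [hma, inv_mul_cancel]; exact one_mem _)
    rw [← show ((⁅g, e⁆ : ↥S) : Ω) = a from rfl] at hh ⊢
    rw [eq_one_of_mem D.M (by omega) (coe_mem_lay.1 hh)]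
    rfl
  have w2 : Wt (p := p) t (n - 2) ((l : ZMod p) * l) := by
    refine hwt (v := (g : Ω)) (by omega) (by omega) (coe_mem_lay.2 hg)
      (by rw [show n - 2 + 1 = n - 1 by omega]; exact fun hh => hg' (coe_mem_lay.1 hh)) _ ?_
    rw [hκe, inv_mul_cancel_left, show n - 2 + 1 = n - 1 by omega]
    exact hκ1
  have w3 : Wt (p := p) t (n - 3) 1 := by
    refine hwt (v := (f : Ω)) le_rfl (by omega) hfL
      (by rw [show n - 3 + 1 = n - 2 by omega]; exact fun hh => hf2 (coe_mem_lay.1 hh)) _ ?_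
    rw [ZMod.val_one, pow_one, show n - 3 + 1 = n - 2 by omega]
    exact Subgroup.zpowers_le.2 (lay_antitone (by omega) ha)
      (shift_fix D hm hLS hKL hLc haL hma hmK ((hmemK f).2 hfK))
  obtain ⟨A, B, hv, hu, hw⟩ := weight_six D.M D.hp2 t h6 hne w1 w2 w3
  rw [mul_one] at hv
  subst hv
  have hlu := l.ne_zero
  have hA1 : A * (l : ZMod p) = 1 := by
    refine mul_right_cancel₀ hlu ?_
    rw [one_mul, mul_assoc]; exact hu.symm
  have hkey : (l : ZMod p) ^ (2 * n - 9) = 1 := by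
    rw [show 2 * n - 9 = 2 * (n - 5) + 1 by omega, pow_succ, pow_mul]
    calc ((l : ZMod p) ^ 2) ^ (n - 5) * l = (((l : ZMod p) * l) ^ (n - 5) * l) * (A * l) := by
          rw [hA1, mul_one, sq]
      _ = A * ((l : ZMod p) * l) * ((l : ZMod p) * l) ^ (n - 5) := by ring
      _ = 1 := hw.symm
  have hdvd : p - 1 ∣ 2 * n - 9 := hl ▸ orderOf_dvd_of_pow_eq_one
    (Units.ext (by rw [Units.val_pow_eq_pow_val, hkey, Units.val_one]))
  obtain ⟨q, hq⟩ := hdvd
  obtain ⟨m', hm'⟩ : Even (p - 1) := hp.out.even_sub_one D.hp2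
  rw [hm', ← two_mul, mul_assoc] at hq
  omega

end Elem

end Cfsg.Agent.H91.Small
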