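import Cfsg.Agent.H91.Small.MixB
import Cfsg.Agent.H90.Oliver
import Cfsg.Agent.H49.OrderFourth
import Cfsg.Agent.PGroups.Commutator

/-!
An essential subgroup of order at most `p ^ 3` in a group of maximal class is a pearl or elementary abelian.
-/

set_option autoImplicit false
set_option linter.style.haveILetI false
set_option linter.unusedSectionVars false

namespace Cfsg.Agent.H91.Small

open Cfsg Cfsg.FusionSystem Cfsg.Agent.FusionSys Cfsg.Agent.PGroups
open Cfsg.FusionSystem (centralizerIn normalizerIn)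
open scoped commutatorElement

universe u

variable {Ω : Type u} [Group Ω] {S : Subgroup Ω} [Finite S] {p n : ℕ} [hp : Fact p.Prime]
  {F : FusionSystem S}

/-- An element of `S` normalizing both acts trivially on a section of order `p`. -/
theorem step_fix (hS : IsPGroup p S) {U V : Subgroup Ω} (hUV : U ≤ V) (hVS : V ≤ S)
    (hcard : Nat.card V = p * Nat.card U) {g : Ω} (hgS : g ∈ S) (hgU : ∀ u ∈ U, g * u * g⁻¹ ∈ U)
    (hgV : ∀ v ∈ V, g * v * g⁻¹ ∈ V) : ∀ y ∈ V, y⁻¹ * (g * y * g⁻¹) ∈ U := by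
  haveI : Finite V := finite_of_le hVS
  have hcU : Nat.card (U.subgroupOf V) = Nat.card U := Nat.card_congr (Subgroup.subgroupOfEquivOfLe hUV).toEquiv
  have hidx : (U.subgroupOf V).index = p := by
    have h := (U.subgroupOf V).card_mul_index
    rw [hcU, hcard, mul_comm p] at h
    exact Nat.eq_of_mul_eq_mul_left (hcU ▸ Nat.card_pos) h
  haveI := PGroups.normal_of_index_eq (hS.to_le hVS) hidx
  obtain ⟨e, he, heU⟩ : ∃ e ∈ V, e ∉ U := by
    by_contra hall
    push Not at hall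
    rw [le_antisymm hall hUV] at hcard
    haveI : Finite U := finite_of_le (hUV.trans hVS)
    have := hp.out.two_le
    nlinarith [Nat.card_pos (α := U)]
  set q := QuotientGroup.mk' (U.subgroupOf V)
  obtain ⟨i, hi⟩ := gen_prime hS hVS hUV hcard he heU (hgV e he)
  let c : V →* V := MonoidHom.mk' (fun y => ⟨g * y * g⁻¹, hgV y y.2⟩) fun a b =>
    Subtype.ext (by simp [mul_assoc])
  have hmem : ∀ {y : V}, y ∈ U.subgroupOf V → q y = 1 := fun h => (QuotientGroup.eq_one_iff _).2 h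
  have hqc : ∀ y : V, q (c y) = q y ^ i := fun y => by
    obtain ⟨t, ht⟩ := gen_prime hS hVS hUV hcard he heU y.2
    obtain ⟨u, hu, rfl⟩ : ∃ u : V, (u : Ω) ∈ U ∧ y = (⟨e, he⟩ : V) ^ t * u :=
      ⟨((⟨e, he⟩ : V) ^ t)⁻¹ * y, ht, (mul_inv_cancel_left _ _).symm⟩
    have hce : q (c ⟨e, he⟩) = q ⟨e, he⟩ ^ i := by
      rw [← map_pow]
      exact ((QuotientGroup.eq (s := U.subgroupOf V)).2 hi).symm
    have hcu : c u ∈ U.subgroupOf V := hgU _ hu
    rw [map_mul, map_pow, map_mul, map_pow, hce, hmem hcu, map_mul, map_pow, hmem (show u ∈ U.subgroupOf V from hu),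
      mul_one, mul_one, ← pow_mul, ← pow_mul, mul_comm]
  have hit : ∀ (m : ℕ) (y : V) (hy : g ^ m * y * (g ^ m)⁻¹ ∈ V), q ⟨_, hy⟩ = q y ^ (i ^ m) := by
    intro m
    induction m with
    | zero =>
      intro y hy
      rw [show i ^ 0 = 1 from rfl, pow_one]
      congr 1
      exact Subtype.ext (by simp)
    | succ m ih =>
      intro y hy
      have hy' : g ^ m * y * (g ^ m)⁻¹ ∈ V := by
        clear hy ih
        induction m with
        | zero => simp
        | succ k hk =>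
          have := hgV _ hk
          rwa [show g * (g ^ k * y * (g ^ k)⁻¹) * g⁻¹ = g ^ (k + 1) * y * (g ^ (k + 1))⁻¹ by
            rw [pow_succ']; group] at this
      have e' : (⟨_, hy⟩ : V) = c ⟨_, hy'⟩ := Subtype.ext (by
        show g ^ (m + 1) * (y : Ω) * (g ^ (m + 1))⁻¹ = g * (g ^ m * y * (g ^ m)⁻¹) * g⁻¹
        rw [pow_succ']; group)
      rw [e', hqc, ih y hy', ← pow_mul, ← pow_succ]
  obtain ⟨k, hk⟩ := hS.exists_card_eq
  have hgk : g ^ p ^ k = 1 := by
    have h : (⟨g, hgS⟩ : S) ^ p ^ k = 1 := by rw [← hk]; exact pow_card_eq_one'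
    exact congrArg Subtype.val h
  have ho : orderOf (q ⟨e, he⟩) = p := orderOf_eq_prime
    (by
      have : Nat.card (V ⧸ U.subgroupOf V) = p := by rw [← Subgroup.index_eq_card, hidx]
      rw [← this]
      exact pow_card_eq_one')
    fun h => heU ((QuotientGroup.eq_one_iff (N := U.subgroupOf V) ⟨e, he⟩).1 h)
  have h1 := hit (p ^ k) ⟨e, he⟩ (by rw [hgk]; simpa using he)
  have h2 : q ⟨e, he⟩ ^ 1 = q ⟨e, he⟩ ^ (i ^ p ^ k) := by
    rw [← h1, pow_one]
    congr 1
    exact Subtype.ext (by simp [hgk])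
  rw [pow_eq_pow_iff_modEq, ho] at h2
  have hi1 : (i : ZMod p) = 1 := by
    have h := (ZMod.natCast_eq_natCast_iff _ _ _).2 h2
    rwa [Nat.cast_one, Nat.cast_pow, ZMod.pow_card_pow, eq_comm] at h
  intro y hy
  have h3 := hqc ⟨y, hy⟩
  have hyp : q ⟨y, hy⟩ ^ p = 1 := by
    have : Nat.card (V ⧸ U.subgroupOf V) = p := by rw [← Subgroup.index_eq_card, hidx]
    rw [← this]
    exact pow_card_eq_one'
  have hip : q ⟨y, hy⟩ ^ i = q ⟨y, hy⟩ := by
    rw [pow_congr_zmod hyp (b := 1) (by rw [hi1, Nat.cast_one]), pow_one]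
  rw [hip] at h3
  exact (QuotientGroup.eq (s := U.subgroupOf V)).1 h3.symm

variable (hS : IsPGroup p S) (hF : F.IsSaturated p) {P : Subgroup Ω} (hP : F.IsEssential p P)
include hS hF hP

/-- An element stabilizing an invariant series of length three lies in the essential subgroup. -/
theorem mem_of_stabilize3 {U₁ U₂ : Subgroup Ω} (h12 : U₁ ≤ U₂) (h2P : U₂ ≤ P)
    (hinv1 : ∀ α ∈ F.autGroup P, ∀ u ∈ U₁, autMap α u ∈ U₁)
    (hinv2 : ∀ α ∈ F.autGroup P, ∀ u ∈ U₂, autMap α u ∈ U₂) {g : Ω} (hg : g ∈ normalizerIn S P)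
    (h1 : ∀ u ∈ U₁, g * u * g⁻¹ = u) (h2 : ∀ b ∈ U₂, b⁻¹ * (g * b * g⁻¹) ∈ U₁)
    (h3 : ∀ y ∈ P, y⁻¹ * (g * y * g⁻¹) ∈ U₂) : g ∈ P := by
  have hPS := hP.1.1
  have h1P : U₁ ≤ P := h12.trans h2P
  haveI := finite_autGroup F hPS
  haveI := finite_of_le hPS
  let K : Subgroup (F.autGroup P) :=
    { carrier := {α | (∀ u ∈ U₁, autMap (α : MulAut ↥P) u = u) ∧
        (∀ b ∈ U₂, b⁻¹ * autMap (α : MulAut ↥P) b ∈ U₁) ∧ ∀ y ∈ P, y⁻¹ * autMap (α : MulAut ↥P) y ∈ U₂}
      one_mem' := ⟨fun u hu => by rw [autMap_apply _ (h1P hu)]; rfl,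
        fun b hb => by rw [autMap_apply _ (h2P hb)]; simp [U₁.one_mem],
        fun y hy => by rw [autMap_apply _ hy]; simp [U₂.one_mem]⟩
      mul_mem' := fun {α β} ha hb => by
        refine ⟨fun u hu => ?_, fun b hb' => ?_, fun y hy => ?_⟩
        · rw [Subgroup.coe_mul, autMap_mul _ _ (h1P hu), hb.1 u hu, ha.1 u hu]
        · rw [Subgroup.coe_mul, autMap_mul _ _ (h2P hb')]
          have hmem : autMap (β : MulAut ↥P) b ∈ U₂ := by
            rw [← mul_inv_cancel_left b (autMap (β : MulAut ↥P) b)]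
            exact U₂.mul_mem hb' (h12 (hb.2.1 b hb'))
          have := U₁.mul_mem (hb.2.1 b hb') (ha.2.1 _ hmem)
          rwa [mul_assoc, mul_inv_cancel_left] at this
        · rw [Subgroup.coe_mul, autMap_mul _ _ hy]
          have := U₂.mul_mem (hb.2.2 y hy) (ha.2.2 _ (autMap_mem (β : MulAut ↥P) hy))
          rwa [mul_assoc, mul_inv_cancel_left] at this
      inv_mem' := fun {α} ha => by
        refine ⟨fun u hu => ?_, fun b hb => ?_, fun y hy => ?_⟩
        · have := autMap_inv_apply (α : MulAut ↥P)⁻¹ (h1P hu)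
          rw [inv_inv, ha.1 u hu] at this
          exact this
        · have hw : autMap ((α : MulAut ↥P)⁻¹) b ∈ U₂ := hinv2 _ ((F.autGroup P).inv_mem α.2) b hb
          have := U₁.inv_mem (ha.2.1 _ hw)
          rw [autMap_inv_apply _ (h2P hb), mul_inv_rev, inv_inv] at this
          exact this
        · have := U₂.inv_mem (ha.2.2 _ (autMap_mem ((α : MulAut ↥P)⁻¹) hy))
          rw [autMap_inv_apply _ hy, mul_inv_rev, inv_inv] at this
          exact this }
  have hKn : K.Normal := ⟨fun α hα γ => by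
    have e : ∀ y ∈ P, autMap ((γ * α * γ⁻¹ : F.autGroup P) : MulAut ↥P) y
        = autMap (γ : MulAut ↥P) (autMap (α : MulAut ↥P) (autMap ((γ : MulAut ↥P)⁻¹) y)) := by
      intro y hy
      rw [Subgroup.coe_mul, Subgroup.coe_mul, Subgroup.coe_inv, autMap_mul _ _ hy,
        autMap_mul _ _ (autMap_mem _ hy)]
    have hm := (mem_autGroup_iff hPS).1 γ.2
    have key : ∀ (U W : Subgroup Ω), (∀ w ∈ W, autMap (γ : MulAut ↥P) w ∈ W) →
        ∀ y ∈ P, (autMap ((γ : MulAut ↥P)⁻¹) y)⁻¹ * autMap (α : MulAut ↥P) (autMap ((γ : MulAut ↥P)⁻¹) y) ∈ W →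
        y⁻¹ * autMap ((γ * α * γ⁻¹ : F.autGroup P) : MulAut ↥P) y ∈ W := by
      intro _ W hW y hy hmem
      rw [e y hy]
      set w := autMap ((γ : MulAut ↥P)⁻¹) y
      have hwP : w ∈ P := autMap_mem _ hy
      rw [show y = autMap (γ : MulAut ↥P) w from (autMap_inv_apply _ hy).symm, ← hm.map_inv hwP,
        ← hm.map_mul (P.inv_mem hwP) (autMap_mem _ hwP)]
      exact hW _ hmem
    refine ⟨fun u hu => ?_, fun b hb => ?_, fun y hy => ?_⟩
    · rw [e u (h1P hu), hα.1 _ (hinv1 _ ((F.autGroup P).inv_mem γ.2) u hu), autMap_inv_apply _ (h1P hu)]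
    · exact key U₁ U₁ (hinv1 _ γ.2) b (h2P hb) (hα.2.1 _ (hinv2 _ ((F.autGroup P).inv_mem γ.2) b hb))
    · exact key U₂ U₂ (hinv2 _ γ.2) y hy (hα.2.2 _ (autMap_mem _ hy))⟩
  have hKp : IsPGroup p K := by
    haveI := finite_of_le (h2P.trans hPS)
    obtain ⟨k, hk⟩ := (hS.to_le hPS).exists_card_eq
    have hpow : ∀ d ∈ P, d ^ p ^ k = 1 := fun d hd => by
      have h1' : (⟨d, hd⟩ : ↥P) ^ p ^ k = 1 := by rw [← hk]; exact pow_card_eq_one'
      exact congrArg Subtype.val h1'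
    have hn : ∀ (δ : MulAut ↥P), δ ∈ F.autGroup P → ∀ y ∈ P,
        autMap δ (y⁻¹ * autMap δ y) = y⁻¹ * autMap δ y → autMap (δ ^ p ^ k) y = y := by
      intro δ hδ y hy hfix
      have hm := (mem_autGroup_iff hPS).1 hδ
      have hd : y⁻¹ * autMap δ y ∈ P := P.mul_mem (P.inv_mem hy) (autMap_mem δ hy)
      have hind : ∀ n : ℕ, autMap (δ ^ n) y = y * (y⁻¹ * autMap δ y) ^ n := by
        intro n
        induction n with
        | zero => rw [pow_zero, Cfsg.Agent.FusionSys.autMap_one hy, pow_zero, mul_one]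
        | succ n ih =>
          rw [pow_succ', autMap_mul _ _ hy, ih, hm.map_mul hy (P.pow_mem hd n), hm.map_pow hd, hfix, pow_succ',
            ← mul_assoc, mul_inv_cancel_left]
      rw [hind, hpow _ hd, mul_one]
    rintro ⟨α, hα⟩
    refine ⟨k + k, Subtype.ext (Subtype.ext (aut_ext fun y hy => ?_))⟩
    show autMap ((α : MulAut ↥P) ^ p ^ (k + k)) y = autMap (1 : MulAut ↥P) y
    rw [Cfsg.Agent.FusionSys.autMap_one hy, pow_add, pow_mul]
    have hK : α ^ p ^ k ∈ K := K.pow_mem hα _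
    have hfix2 : ∀ b ∈ U₂, autMap ((α : MulAut ↥P) ^ p ^ k) b = b := fun b hb =>
      hn _ α.2 b (h2P hb) (hα.1 _ (hα.2.1 b hb))
    refine hn _ (pow_mem α.2 _) y hy (hfix2 _ ?_)
    have := hK.2.2 y hy
    rwa [SubmonoidClass.coe_pow] at this
  have hgA := conjAut_mem_autGroup F hPS hg
  have hgK : (⟨_, hgA⟩ : F.autGroup P) ∈ K := ⟨fun u hu => by
      show autMap (conjAut hg.2) u = u
      rw [autMap_conjAut _ (h1P hu)]
      exact h1 u hu, fun b hb => by
      show b⁻¹ * autMap (conjAut hg.2) b ∈ U₁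
      rw [autMap_conjAut _ (h2P hb)]
      exact h2 b hb, fun y hy => by
      show y⁻¹ * autMap (conjAut hg.2) y ∈ U₂
      rw [autMap_conjAut _ hy]
      exact h3 y hy⟩
  have hmem : conjAut hg.2 ∈ Inn ↥P := by
    rw [← (isRadical_of_isEssential hS hP).2]
    exact ⟨_, (le_sSup (show K ∈ {N : Subgroup (F.autGroup P) | N.Normal ∧ IsPGroup p N} from
      ⟨hKn, hKp⟩)) hgK, rfl⟩
  exact mem_of_conjAut_mem_inn (centralizerIn_le_of_isCentric hP.1) hPS hg.1 hg.2 hmem

/-- The `p`-th power map of an essential subgroup of order at most `p ^ 3` being a homomorphism is trivial. -/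
theorem exp_of_hom (hPS : P < S) {k : ℕ} (hcard : Nat.card P = p ^ k) (hk : k ≤ 3)
    (hhom : ∀ u ∈ P, ∀ v ∈ P, (u * v) ^ p = u ^ p * v ^ p) : ∀ v ∈ P, v ^ p = 1 := by
  by_contra hcon
  push Not at hcon
  obtain ⟨x, hx, hx1⟩ := hcon
  haveI := finite_of_le hPS.le
  let f : P →* P := MonoidHom.mk' (fun v => v ^ p) fun u v => Subtype.ext (hhom u u.2 v v.2)
  have hPp : IsPGroup p P := hS.to_le hPS.le
  set A := f.ker.map P.subtype
  set B := f.range.map P.subtype
  have hA : ∀ v, v ∈ A ↔ v ∈ P ∧ v ^ p = 1 := fun v =>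
    ⟨fun ⟨w, hw, hwv⟩ => hwv ▸ ⟨w.2, congrArg Subtype.val hw⟩,
      fun h => ⟨⟨v, h.1⟩, Subtype.ext h.2, rfl⟩⟩
  have hB : ∀ v, v ∈ B ↔ ∃ w ∈ P, w ^ p = v := fun v =>
    ⟨fun ⟨w, ⟨u, hu⟩, hwv⟩ => ⟨u, u.2, by rw [← hwv, ← hu]; rfl⟩,
      fun ⟨w, hw, he⟩ => ⟨f ⟨w, hw⟩, ⟨_, rfl⟩, he⟩⟩
  have hAP : A ≤ P := Subgroup.map_subtype_le _
  have hBP : B ≤ P := Subgroup.map_subtype_le _
  have hinvA : ∀ α ∈ F.autGroup P, ∀ u ∈ A, autMap α u ∈ A := fun α hα u hu => by
    obtain ⟨hu1, hu2⟩ := (hA u).1 hu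
    refine (hA _).2 ⟨autMap_mem α hu1, ?_⟩
    rw [← ((mem_autGroup_iff hPS.le).1 hα).map_pow hu1, hu2, ((mem_autGroup_iff hPS.le).1 hα).map_one]
  have hinvB : ∀ α ∈ F.autGroup P, ∀ u ∈ B, autMap α u ∈ B := fun α hα u hu => by
    obtain ⟨w, hw, rfl⟩ := (hB u).1 hu
    exact (hB _).2 ⟨_, autMap_mem α hw, (((mem_autGroup_iff hPS.le).1 hα).map_pow hw p).symm⟩
  have hcA : Nat.card A = Nat.card f.ker := Subgroup.card_map_of_injective P.subtype_injective
  have hcB : Nat.card B = Nat.card f.range := Subgroup.card_map_of_injective P.subtype_injective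
  have hmul : Nat.card A * Nat.card B = p ^ k := by
    rw [hcA, hcB, ← Subgroup.index_ker, Subgroup.card_mul_index, hcard]
  haveI : Finite A := finite_of_le (hAP.trans hPS.le)
  haveI : Finite B := finite_of_le (hBP.trans hPS.le)
  obtain ⟨a, ha⟩ := (hS.to_le (hAP.trans hPS.le)).exists_card_eq
  obtain ⟨b, hb⟩ := (hS.to_le (hBP.trans hPS.le)).exists_card_eq
  have hk0 : p ∣ Nat.card P := by
    have : Nontrivial P := ⟨⟨⟨x, hx⟩, 1, fun h => hx1 (by rw [show x = 1 from congrArg Subtype.val h, one_pow])⟩⟩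
    obtain ⟨m, hm0, hm⟩ := hPp.nontrivial_iff_card.1 this
    exact hm ▸ dvd_pow_self p hm0.ne'
  obtain ⟨z, hz⟩ := exists_prime_orderOf_dvd_card' p hk0
  have hzA : (z : Ω) ∈ A := (hA _).2 ⟨z.2, by rw [← SubmonoidClass.coe_pow, ← hz, pow_orderOf_eq_one]; rfl⟩
  have ha0 : a ≠ 0 := fun h => by
    rw [h, pow_zero, Subgroup.card_eq_one] at ha
    rw [ha, Subgroup.mem_bot] at hzA
    rw [show z = 1 from Subtype.ext hzA, orderOf_one] at hz
    exact hp.out.one_lt.ne hz
  have hb0 : b ≠ 0 := fun h => by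
    rw [h, pow_zero, Subgroup.card_eq_one] at hb
    have h' : x ^ p ∈ B := (hB _).2 ⟨x, hx, rfl⟩
    rw [hb, Subgroup.mem_bot] at h'
    exact hx1 h'
  have hab : a + b = k := Nat.pow_right_injective hp.out.two_le (by
    show p ^ (a + b) = p ^ k
    rw [pow_add, ← ha, ← hb]; exact hmul)
  have hlt := lt_normalizerIn hS hPS
  obtain ⟨g, hg, hgP⟩ := SetLike.exists_of_lt hlt
  have hgA := conjAut_mem_autGroup F hPS.le hg
  have hginv : ∀ {U : Subgroup Ω}, U ≤ P → (∀ α ∈ F.autGroup P, ∀ u ∈ U, autMap α u ∈ U) →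
      ∀ u ∈ U, g * u * g⁻¹ ∈ U := fun hU h u hu => by
    have := h _ hgA u hu
    rwa [autMap_conjAut _ (hU hu)] at this
  have finish : ∀ {U₁ U₂ : Subgroup Ω}, U₁ ≤ U₂ → U₂ ≤ P → Nat.card U₁ = p →
      (U₂ ≤ U₁ ∨ Nat.card U₂ = p * Nat.card U₁) → Nat.card P = p * Nat.card U₂ →
      (∀ α ∈ F.autGroup P, ∀ u ∈ U₁, autMap α u ∈ U₁) →
      (∀ α ∈ F.autGroup P, ∀ u ∈ U₂, autMap α u ∈ U₂) → False := by
    intro U₁ U₂ h12 h2P hc1 hc2 hcP hi1 hi2
    have g1 := hginv (h12.trans h2P) hi1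
    have g2 := hginv h2P hi2
    have gP : ∀ y ∈ P, g * y * g⁻¹ ∈ P := fun y hy => conj_mem_of_mem_normalizerIn hg hy
    have f1 : ∀ u ∈ U₁, g * u * g⁻¹ = u := fun u hu => by
      have := step_fix hS (U := ⊥) (V := U₁) bot_le ((h12.trans h2P).trans hPS.le)
        (by rw [Subgroup.card_bot, mul_one, hc1]) hg.1
        (fun v hv => by rw [Subgroup.mem_bot.1 hv]; simp) g1 u hu
      exact (inv_mul_eq_one.1 (Subgroup.mem_bot.1 this)).symm
    refine hgP (mem_of_stabilize3 hS hF hP h12 h2P hi1 hi2 hg f1 (fun v hv => ?_)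
      (step_fix hS h2P hPS.le hcP hg.1 g2 gP))
    rcases hc2 with h | h
    · rw [f1 v (h hv), inv_mul_cancel]
      exact one_mem _
    · exact step_fix hS h12 (h2P.trans hPS.le) h hg.1 g1 g2 v hv
  rcases Nat.lt_or_ge b 2 with hb1 | hb2
  · have hb1 : b = 1 := by omega
    rw [hb1, pow_one] at hb
    have hBA : B ≤ A := fun v hv => (hA v).2 ⟨hBP hv, by
      have h : (⟨v, hv⟩ : ↥B) ^ p = 1 := by
        conv_lhs => arg 2; rw [← hb]
        exact pow_card_eq_one'
      exact congrArg Subtype.val h⟩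
    refine finish hBA hAP hb ?_ (by rw [hcard, ha, ← pow_succ', show a + 1 = k by omega]) hinvB hinvA
    rcases Nat.lt_or_ge a 2 with ha1 | ha2
    · left
      refine (Subgroup.eq_of_le_of_card_ge hBA ?_).ge
      rw [ha, hb, show a = 1 by omega, pow_one]
    · right
      rw [ha, hb, show a = 2 by omega, pow_two]
  · have ha1 : a = 1 := by omega
    rw [ha1, pow_one] at ha
    have hAB : A ≤ B := by
      have hne : Nontrivial B := Finite.one_lt_card_iff_nontrivial.1 (hb ▸ Nat.one_lt_pow hb0 hp.out.one_lt)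
      obtain ⟨w, hw⟩ := exists_prime_orderOf_dvd_card' (G := B) p (hb ▸ dvd_pow_self p hb0)
      have hwA : (w : Ω) ∈ A := (hA _).2 ⟨hBP w.2, by rw [← SubmonoidClass.coe_pow, ← hw, pow_orderOf_eq_one]; rfl⟩
      have hle : Subgroup.zpowers (w : Ω) = A := Subgroup.eq_of_le_of_card_ge (Subgroup.zpowers_le.2 hwA)
        (by rw [Nat.card_zpowers, Subgroup.orderOf_coe, hw, ha])
      exact hle ▸ Subgroup.zpowers_le.2 w.2
    exact finish hAB hBP ha (Or.inr (by rw [hb, ha, show b = 2 by omega, pow_two]))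
      (by rw [hcard, hb, ← pow_succ', show b + 1 = k by omega]) hinvA hinvB

omit hS hF hP

/-- A group of maximal class from the frozen hypothesis. -/
theorem maxClass_of_lowerCentral (hn : Nat.card S = p ^ n) (h4 : 4 ≤ n)
    (hmax : Subgroup.lowerCentralSeries S (n - 2) ≠ ⊥) : MaxClassGrp ↥S p n :=
  ⟨hn, h4, fun h => hmax (by rw [← Subgroup.top_subtype_lowerCentralSeries, h, Subgroup.map_bot])⟩

theorem small_pearl (hS : IsPGroup p S) (hp5 : 5 ≤ p) (hn : Nat.card S = p ^ n) (h5 : 5 ≤ n)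
    (hmax : Subgroup.lowerCentralSeries S (n - 2) ≠ ⊥) (hF : F.IsSaturated p) {E : Subgroup Ω}
    (hE : F.IsEssential p E)
    (hnp : ¬ ((Nat.card ↥E = p ^ 2 ∧ Cfsg.IsElementaryAbelian p E) ∨
      (Nat.card ↥E = p ^ 3 ∧ Cfsg.IsExtraspecial p ↥E ∧ Monoid.exponent ↥E = p)))
    (hlt : ¬ p ^ 4 ≤ Nat.card ↥E) : False := by
  have hES := hE.1.1
  haveI := finite_of_le hES
  obtain ⟨k, hk⟩ := (hS.to_le hES).exists_card_eq
  have hk3 : k ≤ 3 := by
    by_contra h
    exact hlt (hk ▸ Nat.pow_le_pow_right hp.out.pos (by omega))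
  have hEltS : E < S := lt_of_le_of_ne hES fun h => by
    rw [h, hn] at hk
    have := Nat.pow_right_injective hp.out.two_le hk
    omega
  haveI : Nontrivial ↥S := Finite.one_lt_card_iff_nontrivial.1 (hn ▸ Nat.one_lt_pow (by omega) hp.out.one_lt)
  haveI := hS.center_nontrivial
  have hcent : ∀ z ∈ Subgroup.center ↥S, (z : Ω) ∈ E := fun z hz =>
    centralizerIn_le_of_isCentric hE.1 (FusionSys.mem_centralizerIn.2 ⟨z.2, fun y hy =>
      congrArg Subtype.val (Subgroup.mem_center_iff.1 hz ⟨y, hES hy⟩)⟩)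
  obtain ⟨z, hz1⟩ := exists_ne (1 : Subgroup.center ↥S)
  rcases Nat.lt_or_ge k 2 with hk1 | hk2
  · have hgen : Subgroup.zpowers ((z : ↥S) : Ω) = E := by
      refine Subgroup.eq_of_le_of_card_ge (Subgroup.zpowers_le.2 (hcent _ z.2)) ?_
      rw [hk]
      obtain ⟨j, hj⟩ := IsPGroup.iff_orderOf.1 hS (z : ↥S)
      rw [Nat.card_zpowers, Subgroup.orderOf_coe, hj]
      refine Nat.pow_le_pow_right hp.out.pos ?_
      by_contra h
      rw [show j = 0 by omega, pow_zero, orderOf_eq_one_iff] at hj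
      exact hz1 (Subtype.ext hj)
    refine hEltS.not_ge fun s hs => ?_
    refine centralizerIn_le_of_isCentric hE.1 (FusionSys.mem_centralizerIn.2 ⟨hs, fun y hy => ?_⟩)
    rw [← hgen] at hy
    obtain ⟨i, rfl⟩ := hy
    have h := congrArg Subtype.val (Subgroup.mem_center_iff.1 ((Subgroup.center ↥S).zpow_mem z.2 i) ⟨s, hs⟩)
    simp only [Subgroup.coe_mul, SubgroupClass.coe_zpow] at h
    exact h.symm
  interval_cases k
  · haveI : IsMulCommutative E := IsPGroup.isMulCommutative_of_card_eq_prime_sq hk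
    have hc : ∀ u ∈ E, ∀ v ∈ E, u * v = v * u := fun u hu v hv => comm_of_isMulCommutative this hu hv
    exact hnp (Or.inl ⟨hk, this, exp_of_hom hS hF hE hEltS hk (by norm_num)
      fun u hu v hv => (show Commute u v from hc u hu v hv).mul_pow p⟩)
  · by_cases hab : ∀ u v : E, u * v = v * u
    · have hc : ∀ u ∈ E, ∀ v ∈ E, u * v = v * u := fun u hu v hv => congrArg Subtype.val (hab ⟨u, hu⟩ ⟨v, hv⟩)
      have hexp := exp_of_hom hS hF hE hEltS hk le_rfl
        fun u hu v hv => (show Commute u v from hc u hu v hv).mul_pow p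
      have D : Elem F p n E :=
        ⟨hS, hF, hp5, maxClass_of_lowerCentral hn (by omega) hmax, h5, hE, hk, hc, hexp⟩
      rcases classify D.M D.hp2 h5 D.ab D.cent D.card_sub D.exp_sub with
        hbig | ⟨h, heq, hZ, e, he, he1, he2⟩ | ⟨h6, hev, hne, hZ, hEC, e, he, he1⟩ |
        ⟨h6, hne, hEC, hnZ, hA, hc2, s, hs, v, hv, hsv⟩
      · exact D.not_big hbig
      · exact D.five_case h heq hZ he he1 he2
      · exact D.mixA_case h6 hev hne hZ hEC he he1
      · exact D.mixB_case h6 hne hEC hnZ hA hc2 hs hv hsv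
    · have hx := Cfsg.Agent.H49.extraspecial_of_card_cube hk hab
      have hhom : ∀ u ∈ E, ∀ v ∈ E, (u * v) ^ p = u ^ p * v ^ p := by
        intro u hu v hv
        have hc : ⁅(⟨v, hv⟩ : E), (⟨u, hu⟩ : E)⁆ ∈ Subgroup.center ↥E := by
          rw [← hx.1.2.2]
          exact Subgroup.commutator_mem_commutator (Subgroup.mem_top _) (Subgroup.mem_top _)
        have hcp : ⁅(⟨v, hv⟩ : E), (⟨u, hu⟩ : E)⁆ ^ p = 1 := by
          have h : (⟨_, hc⟩ : Subgroup.center ↥E) ^ p = 1 := by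
            conv_lhs => arg 2; rw [← hx.2]
            exact pow_card_eq_one'
          exact congrArg Subtype.val h
        obtain ⟨t, ht⟩ := PGroups.dvd_choose_two hp.out (by omega : p ≠ 2)
        have h := congrArg Subtype.val (mul_pow_of_commutator_mem_center hc p)
        rw [ht, pow_mul, hcp, one_pow, mul_one] at h
        exact h
      have hexp := exp_of_hom hS hF hE hEltS hk le_rfl hhom
      haveI : Nontrivial E := Finite.one_lt_card_iff_nontrivial.1 (hk ▸ Nat.one_lt_pow (by omega) hp.out.one_lt)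
      exact hnp (Or.inr ⟨hk, hx, (Monoid.exponent_eq_prime_iff hp.out).2 fun g hg =>
        orderOf_eq_prime (Subtype.ext ((SubmonoidClass.coe_pow _ _).trans (hexp g g.2))) hg⟩)

end Cfsg.Agent.H91.Small
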