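import Cfsg.Agent.H90.Transvection
import Cfsg.Agent.FusionSys.StronglyEmbedded

/-!
Groups of automorphisms of an abelian group with a strongly embedded subgroup and a transvection in the
Sylow subgroup under it: the Sylow subgroup is small, and a torus normalizes it.
-/

set_option autoImplicit false
set_option linter.style.haveILetI false
set_option linter.unusedSectionVars false

namespace Cfsg.Agent.H91.Small

open Cfsg.Agent.H90 (seriesStab seriesStab_isPGroup pow_apply_of_fix exists_pow_eq exists_pow_div_mem)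
open Cfsg.Agent.FusionSys (mem_of_conj_mem)

variable {p : ℕ} [hp : Fact p.Prime] {E : Type*} [CommGroup E] [Finite E] {X : Subgroup (MulAut E)}

/-- The data: `Y` strongly embedded over the Sylow subgroup `A`, `z ∈ A` a transvection towards `a`. -/
structure TvData (p : ℕ) [Fact p.Prime] (X : Subgroup (MulAut E)) (A : Sylow p X) (Y : Subgroup X) (z : X)
    (a : E) : Prop where
  exp : ∀ v : E, v ^ p = 1
  ne : Y ≠ ⊤
  emb : ∀ Q : Subgroup X, Q ≤ (A : Subgroup X) → Q ≠ ⊥ → Subgroup.normalizer (Q : Set X) ≤ Y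
  mem : z ∈ (A : Subgroup X)
  zne : z ≠ 1
  fix : (z : MulAut E) a = a
  diff : ∀ v, v⁻¹ * (z : MulAut E) v ∈ Subgroup.zpowers a

namespace TvData

variable {A : Sylow p X} {Y : Subgroup X} {z : X} {a : E} (D : TvData p X A Y z a)
include D

theorem ane : a ≠ 1 := fun h => D.zne (Subtype.ext (MulEquiv.ext fun v => by
  have := D.diff v
  rw [h, Subgroup.zpowers_one_eq_bot, Subgroup.mem_bot, inv_mul_eq_one] at this
  exact this.symm))

theorem card_a : Nat.card (Subgroup.zpowers a) = p := by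
  rw [Nat.card_zpowers]
  exact orderOf_eq_prime (D.exp a) D.ane

/-- A conjugate of `z` fixing `a` comes from the subgroup `Y`. -/
theorem mem_of_fix {h : X} (hfix : ((h * z * h⁻¹ : X) : MulAut E) a = a) : h ∈ Y := by
  haveI : Finite (MulAut E) := Finite.of_injective (fun e : MulAut E => ((e : E ≃* E) : E → E))
    DFunLike.coe_injective
  set z' := ((h * z * h⁻¹ : X) : MulAut E) with hz'
  set a' := (h : MulAut E) a
  have hd' : ∀ v, v⁻¹ * z' v ∈ Subgroup.zpowers a' := fun v => by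
    obtain ⟨i, hi⟩ := D.diff ((h : MulAut E)⁻¹ v)
    refine ⟨i, ?_⟩
    simp only at hi ⊢
    rw [← map_zpow, hi, map_mul, map_inv, MulAut.apply_inv_self, hz', Subgroup.coe_mul,
      Subgroup.coe_mul, Subgroup.coe_inv]
    rfl
  have hfix' : z' a' = a' := by
    rw [hz', Subgroup.coe_mul, Subgroup.coe_mul, Subgroup.coe_inv, MulAut.mul_apply, MulAut.mul_apply,
      MulAut.inv_apply_self, D.fix]
  set T := Subgroup.zpowers a
  set W := T ⊔ Subgroup.zpowers a'
  have hmem : ∀ δ : MulAut E, δ ∈ X → δ a = a → (δ a')⁻¹ * a' ∈ T →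
      (∀ v, v⁻¹ * δ v ∈ W) → δ ∈ seriesStab X T W := by
    intro δ hδ h1 h2 h3
    refine ⟨hδ, fun x hx => ?_, fun b hb => ?_, h3⟩
    · obtain ⟨i, rfl⟩ := hx
      simp only
      rw [map_zpow, h1]
    · obtain ⟨x, hx, y, hy, rfl⟩ := Subgroup.mem_sup.1 hb
      obtain ⟨i, rfl⟩ := hx
      obtain ⟨j, rfl⟩ := hy
      simp only
      have h2' : a'⁻¹ * δ a' ∈ T := by
        have := T.inv_mem h2
        rwa [mul_inv_rev, inv_inv] at this
      rw [map_mul, map_zpow, map_zpow, h1,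
        show (a ^ i * a' ^ j)⁻¹ * (a ^ i * δ a' ^ j) = (a'⁻¹ * δ a') ^ j by
          rw [mul_zpow, inv_zpow]
          group]
      exact T.zpow_mem h2' j
  have hzS : (z : MulAut E) ∈ seriesStab X T W := hmem _ z.2 D.fix
    (by
      have := T.inv_mem (D.diff a')
      rwa [mul_inv_rev, inv_inv] at this) fun v => le_sup_left (α := Subgroup E) (D.diff v)
  have hzS' : z' ∈ seriesStab X T W := hmem _ (h * z * h⁻¹).2 hfix
    (by rw [hfix', inv_mul_cancel]; exact T.one_mem) fun v => le_sup_right (α := Subgroup E) (hd' v)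
  have hp' : IsPGroup p ((seriesStab X T W).subgroupOf X) :=
    (seriesStab_isPGroup (fun b _ => D.exp b) fun b _ => D.exp b).comap_of_injective X.subtype
      X.subtype_injective
  obtain ⟨Q, hQ⟩ := hp'.exists_le_sylow
  obtain ⟨k, hk⟩ := MulAction.exists_smul_eq X A Q
  have hA : ∀ {q : X}, q ∈ (Q : Subgroup X) → k⁻¹ * q * k ∈ (A : Subgroup X) := by
    intro q hq
    rw [← hk, Sylow.coe_subgroup_smul] at hq
    obtain ⟨y, hy, rfl⟩ := hq
    have e : k⁻¹ * ((MulAut.conj k) y) * k = y := by simp [mul_assoc]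
    exact e.symm ▸ hy
  have hzQ : Subgroup.zpowers z ≠ ⊥ := by simpa [Subgroup.zpowers_eq_bot] using D.zne
  have h1 : k⁻¹ ∈ Y := mem_of_conj_mem A D.emb (Subgroup.zpowers_le.2 D.mem) hzQ fun x hx => by
    obtain ⟨i, rfl⟩ := hx
    simp only
    rw [inv_inv, ← (show (k⁻¹ * z * k) ^ i = k⁻¹ * z ^ i * k by
      simpa using conj_zpow (a := k⁻¹) (b := z) (i := i))]
    exact (A : Subgroup X).zpow_mem (hA (hQ hzS)) i
  have h2 : k⁻¹ * h ∈ Y := mem_of_conj_mem A D.emb (Subgroup.zpowers_le.2 D.mem) hzQ fun x hx => by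
    obtain ⟨i, rfl⟩ := hx
    simp only
    rw [← conj_zpow]
    refine (A : Subgroup X).zpow_mem ?_ i
    rw [show k⁻¹ * h * z * (k⁻¹ * h)⁻¹ = k⁻¹ * (h * z * h⁻¹) * k by group]
    exact hA (hQ hzS')
  have := Y.mul_mem (Y.inv_mem h1) h2
  rwa [inv_inv, mul_inv_cancel_left] at this

theorem moved {g : X} (hg : g ∉ Y) : (z : MulAut E) ((g : MulAut E) a) ≠ (g : MulAut E) a := fun h => by
  refine hg (Y.inv_mem_iff.1 (D.mem_of_fix ?_))
  rw [inv_inv, Subgroup.coe_mul, Subgroup.coe_mul, Subgroup.coe_inv, MulAut.mul_apply, MulAut.mul_apply, h,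
    MulAut.inv_apply_self]

/-- The fixed points of `z`. -/
def fixed (z : MulAut E) : Subgroup E where
  carrier := {v | z v = v}
  one_mem' := map_one _
  mul_mem' {u v} hu hv := by
    show z (u * v) = u * v
    rw [map_mul, hu, hv]
  inv_mem' {u} hu := by
    show z u⁻¹ = u⁻¹
    rw [map_inv, hu]

theorem index_fixed : (fixed (z : MulAut E)).index = p := by
  let f : E →* E := MonoidHom.mk' (fun v => v⁻¹ * (z : MulAut E) v) fun u v => by
    rw [map_mul, mul_inv_rev]
    simp [mul_assoc, mul_comm, mul_left_comm]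
  have hk : f.ker = fixed (z : MulAut E) := by
    ext v
    exact inv_mul_eq_one.trans eq_comm
  have hr : f.range ≤ Subgroup.zpowers a := by
    rintro _ ⟨v, rfl⟩
    exact D.diff v
  rw [← hk, Subgroup.index_ker]
  rcases (Nat.dvd_prime hp.out).1 (D.card_a ▸ Subgroup.card_dvd_of_le hr) with h | h
  · refine absurd (Subgroup.eq_bot_of_card_eq _ h) fun hb => D.zne (Subtype.ext (MulEquiv.ext fun v => ?_))
    have : f v ∈ f.range := ⟨v, rfl⟩
    rw [hb, Subgroup.mem_bot] at this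
    exact (inv_mul_eq_one.1 this).symm
  · exact h

theorem fixed_dec {g : X} (hg : g ∉ Y) (v : E) :
    ∃ i : ℕ, v * (a ^ i)⁻¹ ∈ fixed ((g * z * g⁻¹ : X) : MulAut E) := by
  have hidx : (fixed ((g * z * g⁻¹ : X) : MulAut E)).index = p := by
    rw [show fixed ((g * z * g⁻¹ : X) : MulAut E)
        = (fixed (z : MulAut E)).comap ((g : MulAut E)⁻¹ : MulAut E).toMonoidHom by
      ext v
      show ((g * z * g⁻¹ : X) : MulAut E) v = v ↔ (z : MulAut E) ((g : MulAut E)⁻¹ v) = (g : MulAut E)⁻¹ v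
      rw [Subgroup.coe_mul, Subgroup.coe_mul, Subgroup.coe_inv, MulAut.mul_apply, MulAut.mul_apply]
      constructor
      · intro h
        conv_rhs => rw [← h, MulAut.inv_apply_self]
      · intro h
        rw [h, MulAut.apply_inv_self],
      Subgroup.index_comap_of_surjective _ ((g : MulAut E)⁻¹ : MulAut E).surjective]
    exact D.index_fixed
  exact exists_pow_div_mem hidx (fun h => hg (D.mem_of_fix h)) v

/-- The Sylow subgroup fixing `a` is generated by the transvection. -/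
theorem le_zpowers (hA : ∀ w ∈ (A : Subgroup X), (w : MulAut E) a = a) :
    (A : Subgroup X) ≤ Subgroup.zpowers z := by
  intro w hw
  by_contra hwz
  obtain ⟨g, hg⟩ : ∃ g : X, g ∉ Y := by
    by_contra h
    push Not at h
    exact D.ne (eq_top_iff.2 fun x _ => h x)
  set a' := (g : MulAut E) a with ha'
  have hmov := D.moved hg
  obtain ⟨j, hj⟩ := D.fixed_dec hg ((w : MulAut E) a')
  set e := a'⁻¹ * (z : MulAut E) a' with he
  have he1 : e ≠ 1 := fun h => hmov (inv_mul_eq_one.1 h).symm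
  obtain ⟨t, ht⟩ := exists_pow_eq D.card_a (D.diff a') he1
    ((Subgroup.zpowers a).inv_mem ((Subgroup.zpowers a).pow_mem (Subgroup.mem_zpowers a) j))
  set ω := w * z ^ t with hω
  have hωA : ω ∈ (A : Subgroup X) := Subgroup.mul_mem _ hw (Subgroup.pow_mem _ D.mem t)
  have hω1 : ω ≠ 1 := fun h => hwz (by
    rw [eq_inv_of_mul_eq_one_left h]
    exact Subgroup.inv_mem _ (Subgroup.pow_mem _ (Subgroup.mem_zpowers z) t))
  have hval : (ω : MulAut E) a' = (w : MulAut E) a' * (a ^ j)⁻¹ := by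
    have hfe : (z : MulAut E) e = e := by
      obtain ⟨i, hi⟩ := D.diff a'
      simp only at hi
      rw [he, ← hi, map_zpow, D.fix]
    rw [hω, Subgroup.coe_mul, MulAut.mul_apply, SubmonoidClass.coe_pow, pow_apply_of_fix _ hfe,
      ← he, ht, map_mul, map_inv, map_pow, hA w hw]
  have hin : (g⁻¹ * ω * g)⁻¹ ∈ Y := by
    refine D.mem_of_fix ?_
    have h1 : ((g * z * g⁻¹ : X) : MulAut E) ((ω : MulAut E) a') = (ω : MulAut E) a' := by
      rw [hval]; exact hj
    rw [inv_inv]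
    simp only [Subgroup.coe_mul, Subgroup.coe_inv, mul_inv_rev, inv_inv, MulAut.mul_apply] at h1 ⊢
    have h2 : (z : MulAut E) ((g : MulAut E)⁻¹ ((ω : MulAut E) a')) = (g : MulAut E)⁻¹ ((ω : MulAut E) a') :=
      (g : MulAut E).injective (h1.trans (MulAut.apply_inv_self _ _ _).symm)
    rw [← ha', h2, MulAut.apply_inv_self]
    simp [ha']
  have hY : g⁻¹ * ω * g ∈ Y := Y.inv_mem_iff.1 hin
  have hAne : (A : Subgroup X) ≠ ⊥ := fun h => D.zne (Subgroup.mem_bot.1 (h ▸ D.mem))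
  have hAY : (A : Subgroup X) ≤ Y := Subgroup.le_normalizer.trans (D.emb _ le_rfl hAne)
  haveI : Finite (MulAut E) := Finite.of_injective (fun e : MulAut E => ((e : E ≃* E) : E → E))
    DFunLike.coe_injective
  have hωp : IsPGroup p ((Subgroup.zpowers (g⁻¹ * ω * g)).subgroupOf Y) := by
    have h0 : IsPGroup p (Subgroup.zpowers ω) := A.isPGroup'.to_le (Subgroup.zpowers_le.2 hωA)
    have h1 : IsPGroup p (Subgroup.zpowers (g⁻¹ * ω * g)) := by
      rw [show Subgroup.zpowers (g⁻¹ * ω * g) = (Subgroup.zpowers ω).map (MulAut.conj g⁻¹).toMonoidHom by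
        rw [MonoidHom.map_zpowers]
        simp]
      exact h0.map _
    exact h1.comap_of_injective Y.subtype Y.subtype_injective
  obtain ⟨T, hT⟩ := hωp.exists_le_sylow
  obtain ⟨y, hy⟩ := MulAction.exists_smul_eq Y (A.subtype hAY) T
  have hTm : (⟨g⁻¹ * ω * g, hY⟩ : Y) ∈ (T : Subgroup Y) := hT (Subgroup.mem_zpowers _)
  rw [← hy, Sylow.coe_subgroup_smul] at hTm
  obtain ⟨v, hv, hve⟩ := hTm
  have hconj : (y : X)⁻¹ * g⁻¹ * ω * ((y : X)⁻¹ * g⁻¹)⁻¹ ∈ (A : Subgroup X) := by
    have h2 : (y : X) * v * (y : X)⁻¹ = g⁻¹ * ω * g := congrArg Subtype.val hve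
    have h3 : (y : X)⁻¹ * g⁻¹ * ω * ((y : X)⁻¹ * g⁻¹)⁻¹ = v := by
      calc (y : X)⁻¹ * g⁻¹ * ω * ((y : X)⁻¹ * g⁻¹)⁻¹ = (y : X)⁻¹ * (g⁻¹ * ω * g) * y := by group
        _ = (v : X) := by rw [← h2]; group
    rw [h3]
    exact hv
  have hmem : (y : X)⁻¹ * g⁻¹ ∈ Y := mem_of_conj_mem A D.emb (Subgroup.zpowers_le.2 hωA)
    (by simpa [Subgroup.zpowers_eq_bot] using hω1) fun x hx => by
      obtain ⟨i, rfl⟩ := hx
      simp only
      rw [← conj_zpow]
      exact (A : Subgroup X).zpow_mem hconj i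
  have := Y.mul_mem y.2 hmem
  rw [mul_inv_cancel_left] at this
  exact hg (Y.inv_mem_iff.1 this)

/-- For every scalar a torus element scales `a`, scales inversely modulo the fixed points of `z` and fixes a
complement of `a` among them. -/
theorem exists_torus (l : (ZMod p)ˣ) :
    ∃ τ : X, (τ : MulAut E) a = a ^ (l : ZMod p).val ∧
      (∀ v, ((v ^ ((l⁻¹ : (ZMod p)ˣ) : ZMod p).val))⁻¹ * (τ : MulAut E) v ∈ fixed (z : MulAut E)) ∧
      ∀ v ∈ fixed (z : MulAut E), ∃ (i : ℕ) (c : E), v = c * a ^ i ∧ (τ : MulAut E) c = c ∧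
        (z : MulAut E) c = c := by
  obtain ⟨g, hg⟩ : ∃ g : X, g ∉ Y := by
    by_contra h
    push Not at h
    exact D.ne (eq_top_iff.2 fun x _ => h x)
  set a' := (g : MulAut E) a with ha'
  set v' : X := g * z * g⁻¹ with hv'
  have hva : (v' : MulAut E) a ≠ a := fun h => hg (D.mem_of_fix h)
  have hua : (z : MulAut E) a' ≠ a' := D.moved hg
  have hvfix : (v' : MulAut E) a' = a' := by
    simp only [hv', Subgroup.coe_mul, Subgroup.coe_inv, MulAut.mul_apply, ha', MulAut.inv_apply_self, D.fix]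
  have hvd : a⁻¹ * (v' : MulAut E) a ∈ Subgroup.zpowers a' := by
    obtain ⟨i, hi⟩ := D.diff ((g : MulAut E)⁻¹ a)
    refine ⟨i, ?_⟩
    simp only at hi ⊢
    rw [← map_zpow, hi, map_mul, map_inv, MulAut.apply_inv_self]
    simp only [hv', Subgroup.coe_mul, Subgroup.coe_inv, MulAut.mul_apply]
  have hca : Nat.card (Subgroup.zpowers a') = p := by
    rw [Nat.card_zpowers]
    exact orderOf_eq_prime (D.exp a') ((map_ne_one_iff _ (g : MulAut E).injective).2 D.ane)
  obtain ⟨m, hm⟩ := exists_pow_eq D.card_a (D.diff a')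
    (fun h => hua (inv_mul_eq_one.1 h).symm) (Subgroup.mem_zpowers a)
  obtain ⟨m', hm'⟩ := exists_pow_eq hca hvd
    (fun h => hva (inv_mul_eq_one.1 h).symm) (Subgroup.mem_zpowers a')
  let f : ZMod p → ZMod p → E := fun i j => a ^ i.val * a' ^ j.val
  have hpow : ∀ {b : E} (i j : ℕ), (i : ZMod p) = j → b ^ i = b ^ j := fun {b} i j hij => by
    rw [ZMod.natCast_eq_natCast_iff'] at hij
    rw [pow_eq_pow_mod i (D.exp b), pow_eq_pow_mod j (D.exp b), hij]
  let U : ZMod p → X := fun x => z ^ (m * x.val)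
  let V : ZMod p → X := fun x => v' ^ (m' * x.val)
  have hUa : ∀ x, (U x : MulAut E) a = a := fun x => by
    simp only [U, SubmonoidClass.coe_pow]
    rw [pow_apply_of_fix _ (by simp [D.fix]), D.fix, inv_mul_cancel, one_pow, mul_one]
  have hzfix : (z : MulAut E) (a'⁻¹ * (z : MulAut E) a') = a'⁻¹ * (z : MulAut E) a' := by
    obtain ⟨i, hi⟩ := D.diff a'
    simp only at hi
    rw [← hi, map_zpow, D.fix]
  have hvfix' : (v' : MulAut E) (a⁻¹ * (v' : MulAut E) a) = a⁻¹ * (v' : MulAut E) a := by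
    obtain ⟨i, hi⟩ := hvd
    simp only at hi
    rw [← hi, map_zpow, hvfix]
  have hUd : ∀ x, (U x : MulAut E) a' = a' * a ^ x.val := fun x => by
    simp only [U, SubmonoidClass.coe_pow]
    rw [pow_apply_of_fix _ hzfix, pow_mul, hm]
  have hVd : ∀ y, (V y : MulAut E) a = a * a' ^ y.val ∧ (V y : MulAut E) a' = a' := fun y => by
    simp only [V, SubmonoidClass.coe_pow]
    refine ⟨by rw [pow_apply_of_fix _ hvfix', pow_mul, hm'], ?_⟩
    rw [pow_apply_of_fix _ (by simp [hvfix]), hvfix, inv_mul_cancel, one_pow, mul_one]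
  have hU : ∀ x i j, (U x : MulAut E) (f i j) = f (i + x * j) j := fun x i j => by
    simp only [f, map_mul, map_pow, hUa, hUd]
    rw [mul_pow, ← pow_mul, mul_comm (a' ^ j.val), ← mul_assoc, ← pow_add]
    congr 1
    refine hpow _ _ ?_
    simp
  have hV : ∀ y i j, (V y : MulAut E) (f i j) = f i (j + y * i) := fun y i j => by
    simp only [f, map_mul, map_pow, (hVd y).1, (hVd y).2]
    rw [mul_pow, ← pow_mul, mul_assoc, ← pow_add]
    congr 1
    refine hpow _ _ ?_
    simp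
    ring
  let W : (ZMod p)ˣ → X := fun x => U x * V (-((x⁻¹ : (ZMod p)ˣ) : ZMod p)) * U x
  have hW : ∀ (x : (ZMod p)ˣ) i j, (W x : MulAut E) (f i j) =
      f (x * j) (-((x⁻¹ : (ZMod p)ˣ) : ZMod p) * i) := fun x i j => by
    simp only [W, Subgroup.coe_mul, MulAut.mul_apply, hU, hV]
    congr 1
    · linear_combination (-(i + (x : ZMod p) * j)) * x.mul_inv
    · linear_combination (-j) * x.inv_mul
  have h1p : ((1 : ZMod p)).val = 1 := ZMod.val_one p
  have hfa : f 1 0 = a := by simp [f, h1p]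
  have hfa' : f 0 1 = a' := by simp [f, h1p]
  have hT : ∀ i j, ((W l * W (-1) : X) : MulAut E) (f i j) =
      f ((l : ZMod p) * i) (((l⁻¹ : (ZMod p)ˣ) : ZMod p) * j) := fun i j => by
    have e : (((-1 : (ZMod p)ˣ)⁻¹ : (ZMod p)ˣ) : ZMod p) = -1 :=
      inv_eq_of_mul_eq_one_left (a := ((-1 : (ZMod p)ˣ))) (by rw [neg_mul_neg, mul_one]) ▸ rfl
    rw [Subgroup.coe_mul, MulAut.mul_apply, hW, hW, e]
    congr 1
    · ring
    · rw [Units.val_neg, Units.val_one]
      ring
  have h0p : (0 : ZMod p).val = 0 := ZMod.val_zero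
  have hTa : ((W l * W (-1) : X) : MulAut E) a = a ^ (l : ZMod p).val := by
    conv_lhs => rw [← hfa]
    rw [hT]
    simp only [f, mul_one, mul_zero, h0p, pow_zero]
  refine ⟨W l * W (-1), hTa, ?_, ?_⟩
  · have key : ∀ v, ∃ (j : ℕ) (c : E), v = c * a' ^ j ∧ c ∈ fixed (z : MulAut E) := fun v => by
      obtain ⟨j, hj⟩ := exists_pow_div_mem D.index_fixed (fun h => hua h) v
      exact ⟨j, _, (inv_mul_cancel_right v _).symm, hj⟩
    have hta : ((W l * W (-1) : X) : MulAut E) a' = a' ^ ((l⁻¹ : (ZMod p)ˣ) : ZMod p).val := by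
      conv_lhs => rw [← hfa']
      rw [hT]
      simp only [f, mul_one, mul_zero, h0p, pow_zero, one_mul]
    have htz : ((W l * W (-1) : X) : MulAut E) a ∈ fixed (z : MulAut E) := by
      rw [hTa]
      exact Subgroup.pow_mem _ D.fix _
    intro v
    obtain ⟨j, c, rfl, hc⟩ := key v
    obtain ⟨i, hi⟩ := D.fixed_dec hg c
    have hcc : ((W l * W (-1) : X) : MulAut E) (c * (a ^ i)⁻¹) = c * (a ^ i)⁻¹ := by
      have hcz : (z : MulAut E) (c * (a ^ i)⁻¹) = c * (a ^ i)⁻¹ := by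
        rw [map_mul, map_inv, map_pow, D.fix, hc]
      have hUc : ∀ x, (U x : MulAut E) (c * (a ^ i)⁻¹) = c * (a ^ i)⁻¹ := fun x => by
        simp only [U, SubmonoidClass.coe_pow]
        rw [pow_apply_of_fix _ (by simp [hcz]), hcz, inv_mul_cancel, one_pow, mul_one]
      have hVc : ∀ x, (V x : MulAut E) (c * (a ^ i)⁻¹) = c * (a ^ i)⁻¹ := fun x => by
        have hi' : (v' : MulAut E) (c * (a ^ i)⁻¹) = c * (a ^ i)⁻¹ := hi
        simp only [V, SubmonoidClass.coe_pow]
        rw [pow_apply_of_fix _ (by simp [hi']), hi', inv_mul_cancel, one_pow, mul_one]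
      simp only [W, Subgroup.coe_mul, MulAut.mul_apply, hUc, hVc]
    generalize ((W l * W (-1) : X) : MulAut E) = τ at hta htz hcc ⊢
    generalize ((l⁻¹ : (ZMod p)ˣ) : ZMod p).val = k at hta ⊢
    have htc : τ c ∈ fixed (z : MulAut E) := by
      rw [← inv_mul_cancel_right c (a ^ i), map_mul, hcc, map_pow]
      exact Subgroup.mul_mem _ (Subgroup.mul_mem _ hc (Subgroup.inv_mem _ (Subgroup.pow_mem _ D.fix i)))
        (Subgroup.pow_mem _ htz i)
    rw [map_mul, map_pow, hta, mul_pow, ← pow_mul, ← pow_mul, mul_comm k j, mul_inv_rev, mul_assoc,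
      mul_comm (c ^ k)⁻¹, ← mul_assoc, mul_comm (τ c), ← mul_assoc, inv_mul_cancel, one_mul]
    exact Subgroup.mul_mem _ htc (Subgroup.inv_mem _ (Subgroup.pow_mem _ hc k))
  · intro v hv
    obtain ⟨i, hi⟩ := D.fixed_dec hg v
    have hcz : (z : MulAut E) (v * (a ^ i)⁻¹) = v * (a ^ i)⁻¹ := by
      rw [map_mul, map_inv, map_pow, D.fix, hv]
    have hUc : ∀ x, (U x : MulAut E) (v * (a ^ i)⁻¹) = v * (a ^ i)⁻¹ := fun x => by
      simp only [U, SubmonoidClass.coe_pow]
      rw [pow_apply_of_fix _ (by simp [hcz]), hcz, inv_mul_cancel, one_pow, mul_one]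
    have hVc : ∀ x, (V x : MulAut E) (v * (a ^ i)⁻¹) = v * (a ^ i)⁻¹ := fun x => by
      have hi' : (v' : MulAut E) (v * (a ^ i)⁻¹) = v * (a ^ i)⁻¹ := hi
      simp only [V, SubmonoidClass.coe_pow]
      rw [pow_apply_of_fix _ (by simp [hi']), hi', inv_mul_cancel, one_pow, mul_one]
    refine ⟨i, _, (inv_mul_cancel_right v _).symm, ?_, hcz⟩
    simp only [W, Subgroup.coe_mul, MulAut.mul_apply, hUc, hVc]

end TvData

end Cfsg.Agent.H91.Small
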